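import Groth.Agent.AVDualLib.Quot

/-!
Any dual is the quotient by `K(L)`.
-/

set_option autoImplicit false
set_option maxHeartbeats 1000000
set_option maxRecDepth 8000
set_option backward.isDefEq.respectTransparency false
set_option linter.style.haveILetI false
set_option linter.unusedSectionVars false

noncomputable section

universe u

open CategoryTheory CategoryTheory.Limits MonoidalCategory CartesianMonoidalCategory MonObj AlgebraicGeometry
open CubeConsLib AVVanishLib AVAmpleLib AVIndexLib AVThetaLib ThetaGrp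

namespace AVDualLib

/-- Geometric points lift along finite surjections. -/
theorem exists_geomPoint_lift {X Y : Scheme.{u}} (f : X ⟶ Y) [IsFinite f] [Surjective f] {Ω : Type u} [Field Ω]
    [IsAlgClosed Ω] (σ : Spec (CommRingCat.of Ω) ⟶ Y) : ∃ σ' : Spec (CommRingCat.of Ω) ⟶ X, σ' ≫ f = σ := by
  let Z := pullback f σ
  let q : Z ⟶ Spec (CommRingCat.of Ω) := pullback.snd f σ
  haveI : IsFinite q := MorphismProperty.pullback_snd (P := @IsFinite) f σ ‹_›
  haveI : Surjective q := MorphismProperty.pullback_snd (P := @Surjective) f σ ‹_›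
  haveI : JacobsonSpace Z := LocallyOfFiniteType.jacobsonSpace q
  obtain ⟨z, hz⟩ : (closedPoints Z).Nonempty := by
    by_contra h
    rw [Set.not_nonempty_iff_eq_empty] at h
    have h' := closure_closedPoints (X := Z)
    rw [h, closure_empty] at h'
    obtain ⟨z, -⟩ := q.surjective (IsLocalRing.closedPoint Ω)
    exact (Set.eq_empty_iff_forall_notMem.1 h'.symm) z (Set.mem_univ z)
  exact ⟨pointOfClosedPoint q z hz ≫ pullback.fst f σ, by
    rw [Category.assoc, pullback.condition, ← Category.assoc, pointOfClosedPoint_comp]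
    exact Category.id_comp σ⟩

variable {k : Type u} [Field k] [IsAlgClosed k] {A : Over (Spec (CommRingCat.of k))} [GrpObj A] [IsProper A.hom]
  [GeometricallyIntegral A.hom] {L : A.left.Modules} {hL : PicF.IsInvertible L}
  {Y : Over (Spec (CommRingCat.of k))} [GrpObj Y] [IsProper Y.hom] [GeometricallyIntegral Y.hom]
  {π : A ⟶ Y} [IsMonHom π] [IsFinite π.left] [Surjective π.left] {Q : (Y ⊗ A).left.Modules}
  {hQ : PicF.IsInvertible Q} (h : QuotPair hL Y π hQ)

/-- The family of a point of the quotient. -/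
def fam (hQ : PicF.IsInvertible Q) {T : Over (Spec (CommRingCat.of k))} (y : T ⟶ Y) : PicA (A ⊗ T).left :=
  P hQ (lift (snd A T ≫ y) (fst A T))

theorem pullA_fam {T U : Over (Spec (CommRingCat.of k))} (g : U ⟶ T) (y : T ⟶ Y) :
    pullA (A ◁ g).left (fam hQ y) = fam hQ (g ≫ y) := by
  rw [fam, pullA_P, comp_lift, whiskerLeft_fst, ← Category.assoc, whiskerLeft_snd, Category.assoc]
  rfl

include h in
theorem fam_comp {T : Over (Spec (CommRingCat.of k))} (a : T ⟶ A) : fam hQ (a ≫ π) = Lam hL a := by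
  rw [fam, ← Category.assoc, h.lam_eq]
  rfl

include h in
theorem fam_sec {T : Over (Spec (CommRingCat.of k))} (y : T ⟶ Y) :
    pullA (lift (1 : T ⟶ A) (𝟙 T)).left (fam hQ y) = 0 := by
  rw [fam, pullA_P, comp_lift, lift_fst, lift_snd_assoc, Category.id_comp]
  have e := h.mul_left (1 : T ⟶ A) 1 y
  rw [_root_.mul_one] at e
  exact (left_eq_add.1 e :)

include h in
/-- The points of the quotient are determined by their families. -/
theorem eq_of_fam {T : Over (Spec (CommRingCat.of k))} {y y' : T ⟶ Y} {N : PicA T.left}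
    (e : fam hQ y = fam hQ y' + pullA (snd A T).left N) : y = y' := by
  haveI : IsCommMonObj A := isCommMonObj_field
  haveI : IsCommMonObj Y := isCommMonObj_field
  haveI := proper_prod Y A
  haveI := geomInt_prod Y A
  have hN := congrArg (pullA (lift (1 : T ⟶ A) (𝟙 T)).left) e
  rw [map_add, fam_sec h, fam_sec h, pullA_comp, ← Over.comp_left, lift_snd, Over.id_left, pullA_id, zero_add] at hN
  rw [← hN, map_zero, add_zero] at e
  have h1 : fam hQ (y / y') = 0 := by
    have h2 := h.mul_right (fst A T) (snd A T ≫ (y / y')) (snd A T ≫ y')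
    rw [← MonObj.comp_mul, div_mul_cancel] at h2
    exact (right_eq_add.1 (Eq.trans e.symm h2) :)
  have hy1 : ∀ {V : Over (Spec (CommRingCat.of k))} (y : V ⟶ Y), P hQ (lift y (1 : V ⟶ A)) = 0 := fun y => by
    have e := h.mul_left (1 : _ ⟶ A) 1 y
    rw [_root_.mul_one] at e
    exact (left_eq_add.1 e :)
  have hx1 : ∀ {V : Over (Spec (CommRingCat.of k))} (x : V ⟶ A), P hQ (lift (1 : V ⟶ Y) x) = 0 := fun x => by
    have e := h.mul_right x (1 : _ ⟶ Y) 1
    rw [_root_.mul_one] at e
    exact (left_eq_add.1 e :)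
  have hz : MumfordZero hQ (lift (y / y') (1 : T ⟶ A)) := by
    unfold MumfordZero
    let W := (Y ⊗ A) ⊗ T
    let b : W ⟶ Y := fst (Y ⊗ A) T ≫ fst Y A
    let a : W ⟶ A := fst (Y ⊗ A) T ≫ snd Y A
    let d : W ⟶ Y := snd (Y ⊗ A) T ≫ (y / y')
    rw [show fst (Y ⊗ A) T = lift b a by apply CartesianMonoidalCategory.hom_ext <;> simp [b, a],
      show snd (Y ⊗ A) T ≫ lift (y / y') (1 : T ⟶ A) = lift d 1 by
        apply CartesianMonoidalCategory.hom_ext <;> simp [d, MonObj.comp_one],
      show lift b a * lift d 1 = lift (b * d) (a * 1) by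
        apply CartesianMonoidalCategory.hom_ext <;> simp [MonObj.mul_comp], _root_.mul_one, h.mul_right, hy1, add_zero]
    have h2 := congrArg (pullA (lift a (snd (Y ⊗ A) T)).left : PicA (A ⊗ T).left →+ PicA W.left) h1
    rw [map_zero, fam, pullA_P, comp_lift, lift_fst, lift_snd_assoc] at h2
    exact add_eq_left.2 h2
  have h3 := congrArg (· ≫ fst Y A) (h.principal T _ hz)
  simp only [lift_fst, MonObj.one_comp] at h3
  exact eq_of_div_eq_one h3

include h in
/-- Every additive family over an affine base is the family of a point, up to the base. -/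
theorem exists_fam {R : Type u} [CommRing R] (ψ : k →+* R)
    {Fc : (PicF.XT A.hom (Over.mk (Spec.map (CommRingCat.ofHom ψ)))).Modules} (hc : PicF.IsInvertible Fc)
    (hc0 : AddFam (clA hc : PicA (A ⊗ Over.mk (Spec.map (CommRingCat.ofHom ψ))).left)) :
    ∃ (y : Over.mk (Spec.map (CommRingCat.ofHom ψ)) ⟶ Y)
      (M : (Over.mk (Spec.map (CommRingCat.ofHom ψ))).left.Modules) (hM : PicF.IsInvertible M),
      (clA hc : PicA (A ⊗ Over.mk (Spec.map (CommRingCat.ofHom ψ))).left) =
        fam hQ y + pullA (snd A (Over.mk (Spec.map (CommRingCat.ofHom ψ)))).left (clA hM) := by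
  haveI : IsCommMonObj A := isCommMonObj_field
  haveI := proper_prod Y A
  haveI := geomInt_prod Y A
  let T := Over.mk (Spec.map (CommRingCat.ofHom ψ))
  let W := Y ⊗ A
  have hc' := AmpleDevLib.isInvertible_pb (AbDual.bcMap (snd Y A) T) hc
  have e0 : (clA hc' : PicA (W ⊗ T).left) = pullA (snd Y A ▷ T).left (clA hc : PicA (A ⊗ T).left) := by
    rw [← pullA_clA _ hc, ← AVThetaLib.bcMap_eq]
    rfl
  have hadd : AddFam (clA hc' : PicA (W ⊗ T).left) := fun V a b s => by
    have e : ∀ w : V ⟶ W, ev (clA hc' : PicA (W ⊗ T).left) w s =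
        ev (clA hc : PicA (A ⊗ T).left) (w ≫ snd Y A) s := fun w => by
      rw [ev, ev, e0, pullA_comp, ← Over.comp_left, lift_whiskerRight]
    rw [e, e, e, e, MonObj.mul_comp, MonObj.one_comp]
    exact hc0 V _ _ s
  obtain ⟨v, hv, M, hM, eM⟩ := exists_section_affine (A := W) h.principal ψ hc' hadd
  rw [hv, whiskerLeft_id, Over.id_left, pullA_id, e0] at eM
  let j : A ⊗ T ⟶ W ⊗ T := lift (lift 1 (fst A T)) (snd A T)
  have hj := congrArg (pullA j.left : PicA (W ⊗ T).left →+ PicA (A ⊗ T).left) eM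
  rw [map_add, pullA_comp, ← Over.comp_left, show j ≫ snd Y A ▷ T = 𝟙 _ by
    apply CartesianMonoidalCategory.hom_ext <;> simp [j], Over.id_left, pullA_id, pullA_comp, ← Over.comp_left,
    show j ≫ snd W T = snd A T from lift_snd _ _] at hj
  refine ⟨v ≫ fst W T ≫ fst Y A, M, hM, hj.trans (congrArg (· + _) ?_)⟩
  rw [Lam, pullA_lam, lift_fst, lift_snd_assoc, fam]
  let z := snd A T ≫ v ≫ fst W T
  let b := z ≫ fst Y A
  let a := z ≫ snd Y A
  rw [show snd A T ≫ v ≫ fst W T = lift b a by apply CartesianMonoidalCategory.hom_ext <;> simp [b, a, z],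
    CubeConsLib.lam, show (lift (1 : A ⊗ T ⟶ Y) (fst A T)) * lift b a = lift (1 * b) (fst A T * a) by
      apply CartesianMonoidalCategory.hom_ext <;> simp [MonObj.mul_comp], _root_.one_mul, h.mul_left]
  have hx1 : P hQ (lift (1 : A ⊗ T ⟶ Y) (fst A T)) = 0 := by
    have e := h.mul_right (fst A T) (1 : _ ⟶ Y) 1
    rw [_root_.mul_one] at e
    exact (left_eq_add.1 e :)
  rw [hx1, sub_zero, add_sub_cancel_right]
  simp only [Category.assoc, b, z]
  rfl

include h in
/-- The family as a class algebraically trivial on the fibres. -/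
theorem exists_fam_module : ∃ (F : (PicF.XT A.hom Y).Modules) (hF : PicF.IsInvertible F),
    (clA hF : PicA (A ⊗ Y).left) = fam hQ (𝟙 Y) ∧ AbDual.IsPicZeroCl A.hom Y (PicF.cl F) := by
  let sw : A ⊗ Y ⟶ Y ⊗ A := lift (snd A Y ≫ 𝟙 Y) (fst A Y)
  have hF := AmpleDevLib.isInvertible_pb sw.left hQ
  refine ⟨(Scheme.Modules.pullback sw.left).obj Q, hF, (pullA_clA _ hQ).symm, _, rfl, hF, fun y Ω _ _ σ hσ => ?_⟩
  obtain ⟨σ', hσ'⟩ := exists_geomPoint_lift π.left σ
  obtain ⟨Λ, hΛ, cΛ⟩ := exists_mumford hL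
  obtain ⟨Λ', eΛ', hΛ', hΛa⟩ := isPicZeroCl_mumford hL cΛ
  let m : PicF.XT A.hom A ⟶ PicF.XT A.hom Y := PicF.XTmap A.hom π
  have hiso : Nonempty ((Scheme.Modules.pullback m).obj ((Scheme.Modules.pullback sw.left).obj Q) ≅ Λ') := by
    refine (clA_eq_iff (AmpleDevLib.isInvertible_pb m hF) hΛ').1 ?_
    rw [(clA_eq_iff hΛ' hΛ).2 (cl_eq_iff.1 (congrArg toI eΛ')), ← pullA_clA m hF, ← pullA_clA _ hQ,
      show m = (A ◁ π).left from (AVThetaLib.XTmap_eq A π).symm]
    show pullA (A ◁ π).left (fam hQ (𝟙 Y)) = (clA hΛ : PicA (A ⊗ A).left)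
    rw [pullA_fam, Category.comp_id, ← Category.id_comp π, fam_comp h, Lam, Category.comp_id]
    exact cΛ.symm
  have hz : Set.range σ'.base = {σ' (IsLocalRing.closedPoint Ω)} := by
    ext x
    exact ⟨fun ⟨p, hp⟩ => hp ▸ congrArg σ'.base (Subsingleton.elim (α := PrimeSpectrum Ω) p _),
      fun hx => ⟨_, hx.symm⟩⟩
  have h1 := hΛa _ Ω σ' hz
  let q := PicF.XTproj A.hom Y
  let q' := PicF.XTproj A.hom A
  have hA : σ' ≫ A.hom = σ ≫ Y.hom := by rw [← hσ', Category.assoc, Over.w π]
  let j : pullback q σ ⟶ pullback q' σ' :=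
    Limits.pullback.lift (Limits.pullback.lift (pullback.fst q σ ≫ pullback.fst A.hom Y.hom)
      (pullback.snd q σ ≫ σ') (by
        rw [Category.assoc, Category.assoc, hA, pullback.condition (f := A.hom) (g := Y.hom),
          ← Category.assoc, pullback.condition, Category.assoc]))
      (pullback.snd q σ) (Limits.pullback.lift_snd _ _ _)
  have h2 := isAlgEquivZero_pullback (Limits.pullback.snd q' σ') (Limits.pullback.snd q σ) j
    (Limits.pullback.lift_snd _ _ _) h1
  have hj : (j ≫ pullback.fst q' σ') ≫ m = pullback.fst q σ := by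
    apply pullback.hom_ext (f := A.hom) (g := Y.hom)
    · rw [Category.assoc, XTmap_fst]
      simp only [j, Limits.pullback.lift_fst]
    · rw [Category.assoc, XTmap_snd]
      simp only [j, Limits.pullback.lift_fst, Limits.pullback.lift_snd_assoc, Category.assoc, hσ']
      exact pullback.condition.symm
  exact @isAlgEquivZero_iso Ω _ _ ⟨Limits.pullback.snd q σ⟩ _ _
    ((Scheme.Modules.pullbackComp j _).app Λ' ≪≫ (Scheme.Modules.pullback (j ≫ pullback.fst q' σ')).mapIso hiso.some.symm ≪≫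
      (Scheme.Modules.pullbackComp _ m).app _ ≪≫ (Scheme.Modules.pullbackCongr hj).app _) h2

variable {At : Over (Spec (CommRingCat.of k))} [GrpObj At] {φ : AgPol.DualMap A At}
  (hA : AbDual.IsDualAV Scheme.fppfPrecoverage A At φ)

include h hA in
/-- The point of the universal family is an isomorphism onto any dual. -/
theorem isIso_phi_fam {F : (PicF.XT A.hom Y).Modules} (hF : PicF.IsInvertible F)
    (cF : (clA hF : PicA (A ⊗ Y).left) = fam hQ (𝟙 Y)) (hF0 : AbDual.IsPicZeroCl A.hom Y (PicF.cl F)) :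
    IsIso (φ Y (PicF.cl F)).left := by
  let ψ := φ Y (PicF.cl F)
  have cy : ∀ {T : Over (Spec (CommRingCat.of k))} (y : T ⟶ Y),
      (pullA (PicF.XTmap A.hom y) (clA hF) : PicA (A ⊗ T).left) = fam hQ y := fun {T} y => by
    rw [← AVThetaLib.XTmap_eq]
    show pullA (A ◁ y).left (clA hF : PicA (A ⊗ Y).left) = _
    rw [cF, pullA_fam, Category.comp_id]
  haveI : Mono ψ := ⟨fun {T} x y hxy => by
    obtain ⟨R, hR, hloc⟩ := hA.relPic.locallyInjective T _ _ (isPicZeroCl_XTmap x hF0) (isPicZeroCl_XTmap y hF0)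
      (by rw [hA.relPic.natural Y T x _ hF0, hA.relPic.natural Y T y _ hF0]; exact hxy)
    refine hom_ext_fppf hR fun U u hu => eq_of_fam h (N := 0) ?_
    have hx := AmpleDevLib.isInvertible_pb (PicF.XTmap A.hom (AbDual.ovrHom T u))
      (AmpleDevLib.isInvertible_pb (PicF.XTmap A.hom x) hF)
    have hy := AmpleDevLib.isInvertible_pb (PicF.XTmap A.hom (AbDual.ovrHom T u))
      (AmpleDevLib.isInvertible_pb (PicF.XTmap A.hom y) hF)
    have e : clA hx = clA hy := (clA_eq_iff hx hy).2 (cl_eq_iff.1 (congrArg toI (hloc u hu)))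
    rw [← pullA_clA _ (AmpleDevLib.isInvertible_pb (PicF.XTmap A.hom x) hF), ← pullA_clA _ hF,
      ← pullA_clA _ (AmpleDevLib.isInvertible_pb (PicF.XTmap A.hom y) hF), ← pullA_clA _ hF] at e
    have e' : pullA (A ◁ AbDual.ovrHom T u).left (fam hQ x) = pullA (A ◁ AbDual.ovrHom T u).left (fam hQ y) := by
      rw [← cy, ← cy, AVThetaLib.XTmap_eq]
      exact e
    rw [pullA_fam, pullA_fam] at e'
    rw [map_zero, add_zero]
    exact e'⟩
  haveI : Mono ψ.left := inferInstance
  obtain ⟨R, hR, hRc⟩ := hA.relPic.locallySurjective At (𝟙 At)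
  obtain ⟨y, hy⟩ := exists_factor_fppf ψ (𝟙 At) hR fun U u hu => by
    obtain ⟨c, hc, hcφ⟩ := hRc u hu
    let V := AbDual.ovr At u
    have key : ∀ (S : CommRingCat.{u}) (f : Spec S ⟶ U), ∃ w : Spec S ⟶ Y.left, w ≫ ψ.left = f ≫ u := by
      intro S f
      let χ : CommRingCat.of k ⟶ S := Spec.preimage (f ≫ u ≫ At.hom)
      let T : Over (Spec (CommRingCat.of k)) := Over.mk (Spec.map (CommRingCat.ofHom χ.hom))
      have hχ : Spec.map (CommRingCat.ofHom χ.hom) = f ≫ u ≫ At.hom := Spec.map_preimage _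
      let g : T ⟶ V := Over.homMk f hχ.symm
      obtain ⟨Fc, hFc, hFi, hFa⟩ := isPicZeroCl_XTmap g hc
      have hc0 : AbDual.IsPicZeroCl A.hom T (PicF.cl Fc) := ⟨Fc, rfl, hFi, hFa⟩
      obtain ⟨y, M, hM, e⟩ := exists_fam h χ.hom hFi (addFam_of_isPicZeroCl hFi hc0)
      have hNy := AmpleDevLib.isInvertible_pb (PicF.XTmap A.hom y) hF
      have h1 := phi_add_base hA hNy hFi (isPicZeroCl_XTmap y hF0) hM (by
        rw [← pullA_clA _ hF]
        exact e.trans (congrArg (· + _) (cy y).symm))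
      refine ⟨y.left, ?_⟩
      have h2 : φ T (PicF.pullCl (PicF.XTmap A.hom g) c) = y ≫ ψ := by
        rw [← hFc, h1]
        exact hA.relPic.natural Y T y _ hF0
      rw [hA.relPic.natural V T g c hc, hcφ] at h2
      have h3 := congrArg Over.Hom.left h2
      simp only [Over.comp_left, Over.id_left, Category.comp_id] at h3
      exact h3.symm
    choose w hw using fun i : U.affineCover.I₀ => key _ (U.affineCover.f i)
    refine ⟨U.affineCover.glueMorphisms w fun i j => ?_, ?_⟩
    · rw [← cancel_mono ψ.left, Category.assoc, Category.assoc, hw, hw, Limits.pullback.condition_assoc]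
    · refine U.affineCover.hom_ext _ _ fun i => ?_
      rw [Scheme.Cover.ι_glueMorphisms_assoc, hw]
      simp
  refine ⟨y.left, ?_, congrArg Over.Hom.left hy⟩
  rw [← cancel_mono ψ.left, Category.assoc, Category.id_comp,
    show y.left ≫ ψ.left = 𝟙 _ from congrArg Over.Hom.left hy]
  exact Category.comp_id _

include h hA in
/-- Any dual is the quotient, through the map of `L`. -/
theorem exists_iso_dual : ∃ ψ : Y ⟶ At, IsIso ψ.left ∧
    ∀ (lam' : A ⟶ At), AgPol.IsLambda A At φ L lam' → lam' = π ≫ ψ := by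
  obtain ⟨F, hF, cF, hF0⟩ := exists_fam_module h
  let ψ := φ Y (PicF.cl F)
  have cy : ∀ {T : Over (Spec (CommRingCat.of k))} (y : T ⟶ Y),
      (pullA (PicF.XTmap A.hom y) (clA hF) : PicA (A ⊗ T).left) = fam hQ y := fun {T} y => by
    rw [← AVThetaLib.XTmap_eq]
    show pullA (A ◁ y).left (clA hF : PicA (A ⊗ Y).left) = _
    rw [cF, pullA_fam, Category.comp_id]
  refine ⟨ψ, isIso_phi_fam h hA hF cF hF0, fun lam' hlam' => ?_⟩
  obtain ⟨N, hN, cN, rfl⟩ := exists_of_isLambda hL hlam'
  rw [← hA.relPic.natural Y A π _ hF0]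
  refine congrArg (φ A) (Quot.sound ?_)
  refine (clA_eq_iff hN (AmpleDevLib.isInvertible_pb (PicF.XTmap A.hom π) hF)).1 ?_
  rw [← pullA_clA _ hF]
  refine Eq.trans ?_ (cy π).symm
  show (clA hN : PicA (A ⊗ A).left) = _
  rw [cN, ← Category.id_comp π, fam_comp h, Lam, Category.comp_id]

include h hA in
/-- The identity of any dual comes from a class. -/
theorem exists_identity_class :
    ∃ c₀ : PicF.Cl (PicF.XT A.hom At), AbDual.IsPicZeroCl A.hom At c₀ ∧ φ At c₀ = 𝟙 At := by
  obtain ⟨F, hF, cF, hF0⟩ := exists_fam_module h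
  haveI := isIso_phi_fam h hA hF cF hF0
  haveI : IsIso ((Over.forget _).map (φ Y (PicF.cl F))) := ‹IsIso (φ Y (PicF.cl F)).left›
  haveI : IsIso (φ Y (PicF.cl F)) := isIso_of_reflects_iso _ (Over.forget _)
  exact ⟨_, CubeConsLib.isPicZeroCl_XTmap (inv (φ Y (PicF.cl F))) hF0, by
    rw [hA.relPic.natural Y At _ _ hF0, IsIso.inv_hom_id]⟩

end AVDualLib

end
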