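import Groth.Agent.AVIndexLib.TopMain
import Groth.Agent.AVIndexLib.KLKernel
import Groth.Agent.AVThetaLib.PoincForm

/-!
Mumford families of a principal class.
-/

set_option autoImplicit false
set_option maxHeartbeats 1000000
set_option maxRecDepth 8000
set_option backward.isDefEq.respectTransparency false
set_option linter.style.haveILetI false
set_option linter.unusedSectionVars false

noncomputable section

universe u

open CategoryTheory CategoryTheory.Limits MonoidalCategory CartesianMonoidalCategory MonObj AlgebraicGeometry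
open CubeConsLib AVVanishLib AVIndexLib

namespace AVDualLib

variable {k : Type u} [Field k] {A : Over (Spec (CommRingCat.of k))} [GrpObj A] [IsProper A.hom]
  [GeometricallyIntegral A.hom] {L : A.left.Modules} (hL : PicF.IsInvertible L)
  {T U : Over (Spec (CommRingCat.of k))}

/-- The family of translates of `L` along a point. -/
def Lam (y : T ⟶ A) : PicA (A ⊗ T).left := lam hL (fst A T) (snd A T ≫ y)

theorem lam_mul_right [IsCommMonObj A] (f g h : T ⟶ A) : lam hL f (g * h) = lam hL f g + lam hL f h := by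
  rw [lam_comm, lam_mul_left, lam_comm hL g, lam_comm hL h]

theorem Lam_mul [IsCommMonObj A] (y y' : T ⟶ A) : Lam hL (y * y') = Lam hL y + Lam hL y' := by
  rw [Lam, MonObj.comp_mul, lam_mul_right]
  rfl

theorem Lam_eq_zero_iff (y : T ⟶ A) : Lam hL y = 0 ↔ MumfordZero hL y := by
  rw [Lam, lam, MumfordZero, sub_sub, sub_eq_zero]

theorem Lam_one : Lam hL (1 : T ⟶ A) = 0 := (Lam_eq_zero_iff hL _).2 (mumfordZero_one hL)

theorem Lam_inv [IsCommMonObj A] (y : T ⟶ A) : Lam hL y⁻¹ = -Lam hL y := by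
  rw [eq_neg_iff_add_eq_zero, ← Lam_mul, inv_mul_cancel, Lam_one]

theorem pullA_Lam (g : U ⟶ T) (y : T ⟶ A) : pullA (A ◁ g).left (Lam hL y) = Lam hL (g ≫ y) := by
  rw [Lam, pullA_lam, whiskerLeft_fst, ← Category.assoc, whiskerLeft_snd, Category.assoc]
  rfl

theorem Lam_sec (y : T ⟶ A) : pullA (lift (1 : T ⟶ A) (𝟙 T)).left (Lam hL y) = 0 := by
  rw [Lam, pullA_lam, lift_fst, lam_one_left]

/-- The class has trivial `K(L)`. -/
def Principal : Prop :=
  ∀ (T : Over (Spec (CommRingCat.of k))) (z : T ⟶ A), MumfordZero hL z → z = 1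

variable {hL}

/-- Points of a principal class are determined by their families. -/
theorem Principal.eq_of_Lam [IsCommMonObj A] (hp : Principal hL) {y y' : T ⟶ A} {N : PicA T.left}
    (h : Lam hL y = Lam hL y' + pullA (snd A T).left N) : y = y' := by
  have e := congrArg (pullA (lift (1 : T ⟶ A) (𝟙 T)).left) h
  rw [map_add, Lam_sec, Lam_sec, pullA_comp, ← Over.comp_left, lift_snd, Over.id_left, pullA_id, zero_add] at e
  rw [← e, map_zero, add_zero] at h
  refine eq_of_div_eq_one (hp T _ ((Lam_eq_zero_iff hL _).1 ?_))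
  rw [div_eq_mul_inv, Lam_mul, Lam_inv, h, add_neg_cancel]

theorem Principal.eq_one_of_Lam (hp : Principal hL) {y : T ⟶ A} (h : Lam hL y = 0) : y = 1 :=
  hp T y ((Lam_eq_zero_iff hL _).1 h)

/-- A module carrying the family of a point. -/
theorem exists_rep (y : T ⟶ A) : ∃ (F : (PicF.XT A.hom T).Modules) (hF : PicF.IsInvertible F),
    (clA hF : PicA (A ⊗ T).left) = Lam hL y ∧ AbDual.IsPicZeroCl A.hom T (PicF.cl F) := by
  obtain ⟨Λ, hΛ, cΛ⟩ := exists_mumford hL
  refine ⟨_, AmpleDevLib.isInvertible_pb (PicF.XTmap A.hom y) hΛ, ?_,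
    isPicZeroCl_XTmap y (isPicZeroCl_mumford hL cΛ)⟩
  rw [← pullA_clA _ hΛ, ← AVThetaLib.XTmap_eq]
  show pullA (A ◁ y).left (clA hΛ : PicA (A ⊗ A).left) = _
  rw [cΛ]
  refine (pullA_lam hL (A ◁ y) (fst A A) (snd A A)).trans ?_
  rw [whiskerLeft_fst, whiskerLeft_snd]
  rfl

/-- Every invertible class minus a class is a class. -/
theorem exists_sub {X : Scheme.{u}} {M N : X.Modules} (hM : PicF.IsInvertible M) (hN : PicF.IsInvertible N) :
    ∃ (D : X.Modules) (hD : PicF.IsInvertible D), clA hD = clA hM - clA hN :=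
  ⟨_, HilbPolyLib.isInvertible_tensor hM (MiscFlat6.dual_isInvertible hN), by
    rw [clA_tensor hM (MiscFlat6.dual_isInvertible hN), clA_dual hN, sub_eq_add_neg]⟩

section Add

theorem sub_add_eq_zero_of_eq {G : Type*} [AddCommGroup G] {p q r o : G} (h : p = q + r - o) : p - (q + r) + o = 0 := by
  rw [h]; abel


/-- The value of a family at a pair of points. -/
def ev (c : PicA (A ⊗ T).left) {V : Over (Spec (CommRingCat.of k))} (a : V ⟶ A) (s : V ⟶ T) : PicA V.left :=
  pullA (lift a s).left c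

/-- A family of additive classes. -/
def AddFam (c : PicA (A ⊗ T).left) : Prop :=
  ∀ (V : Over (Spec (CommRingCat.of k))) (a b : V ⟶ A) (s : V ⟶ T),
    ev c (a * b) s = ev c a s + ev c b s - ev c 1 s

theorem AddFam.add {c c' : PicA (A ⊗ T).left} (h : AddFam c) (h' : AddFam c') : AddFam (c + c') := fun V a b s => by
  simp only [ev, map_add]
  rw [show pullA (lift (a * b) s).left c = _ from h V a b s, show pullA (lift (a * b) s).left c' = _ from h' V a b s]
  simp only [ev]
  abel

theorem AddFam.pull {c : PicA (A ⊗ T).left} (h : AddFam c) (g : U ⟶ T) : AddFam (pullA (A ◁ g).left c) :=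
  fun V a b s => by
    have e : ∀ x : V ⟶ A, ev (pullA (A ◁ g).left c) x s = ev c x (s ≫ g) := fun x => by
      rw [ev, pullA_comp, ← Over.comp_left, lift_whiskerLeft]
      rfl
    rw [e, e, e, e]
    exact h V a b _

theorem addFam_base (N : PicA T.left) : AddFam (pullA (snd A T).left N) := fun V a b s => by
  have e : ∀ x : V ⟶ A, ev (pullA (snd A T).left N) x s = pullA s.left N := fun x => by
    rw [ev, pullA_comp, ← Over.comp_left, lift_snd]
  rw [e, e, e, e, add_sub_cancel_right]

theorem addFam_Lam [IsCommMonObj A] (y : T ⟶ A) : AddFam (Lam hL y) := fun V a b s => by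
  have e : ∀ x : V ⟶ A, ev (Lam hL y) x s = lam hL x (s ≫ y) := fun x => by
    rw [ev, Lam, pullA_lam, lift_fst, lift_snd_assoc]
  rw [e, e, e, e, lam_mul_left, lam_one_left, sub_zero]

theorem addFam_of_defect {F : (PicF.XT A.hom T).Modules} (hF : PicF.IsInvertible F) (h : defect A T hF = 0) :
    AddFam (clA hF : PicA (A ⊗ T).left) := fun V a b s => by
  have hd := pullA_defect A (lift a b) T hF
  rw [h, map_zero, lift_fst, lift_snd, sub_sub] at hd
  have h2 := congrArg (pullA (lift (𝟙 V) s).left : PicA (V ⊗ T).left →+ _) hd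
  have e : ∀ x : V ⟶ A, pullA (lift (𝟙 V) s).left (pullA (AbDual.bcMap x T) (clA hF) : PicA (V ⊗ T).left) =
      ev (clA hF : PicA (A ⊗ T).left) x s := fun x => by
    rw [← AVThetaLib.bcMap_eq, ev]
    refine (pullA_comp _ _ _).trans ?_
    rw [← Over.comp_left, lift_whiskerRight, Category.id_comp]
    rfl
  rw [map_zero, map_add, map_sub, map_add, e, e, e, e] at h2
  rw [sub_add, eq_comm, sub_eq_zero] at h2
  exact h2

theorem defect_of_addFam {F : (PicF.XT A.hom T).Modules} (hF : PicF.IsInvertible F)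
    (h : AddFam (clA hF : PicA (A ⊗ T).left)) : defect A T hF = 0 := by
  have hh := h ((A ⊗ A) ⊗ T) (fst _ _ ≫ fst A A) (fst _ _ ≫ snd A A) (snd _ _)
  have e : ∀ x : A ⊗ A ⟶ A, ev (clA hF : PicA (A ⊗ T).left) (fst (A ⊗ A) T ≫ x) (snd (A ⊗ A) T) =
      (pullA (AbDual.bcMap x T) (clA hF) : PicA ((A ⊗ A) ⊗ T).left) := fun x => by
    rw [← AVThetaLib.bcMap_eq, ev]
    congr 3
  rw [← MonObj.comp_mul, ← MonObj.comp_one (fst (A ⊗ A) T), e, e, e, e] at hh
  rw [defect, sub_sub]
  exact sub_add_eq_zero_of_eq hh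

theorem addFam_of_isPicZeroCl {F : (PicF.XT A.hom T).Modules} (hF : PicF.IsInvertible F)
    (h : AbDual.IsPicZeroCl A.hom T (PicF.cl F)) : AddFam (clA hF : PicA (A ⊗ T).left) := by
  obtain ⟨F', e, hF', ha⟩ := h
  haveI : LocallyOfFinitePresentation A.hom := LocallyOfFinitePresentation.iff_locallyOfFiniteType.2 inferInstance
  rw [← (clA_eq_iff hF' hF).2 (cl_eq_iff.1 (congrArg toI e))]
  exact addFam_of_defect hF' (defect_eq_zero_of_algEquivZero A T hF' ha)

end Add

variable (A) in
/-- The family, seen over a scheme mapping to the base, against the fibre product. -/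
theorem pullA_ovrHom_eq_zero_iff {S : Over (Spec (CommRingCat.of k))} {F : (PicF.XT A.hom S).Modules}
    (hF : PicF.IsInvertible F) {V : Scheme.{u}} (v : V ⟶ S.left) :
    pullA (A ◁ AbDual.ovrHom S v).left (clA hF : PicA (A ⊗ S).left) = 0 ↔
      pullA (Limits.pullback.fst (PicF.XTproj A.hom S) v) (clA hF) = 0 := by
  rw [AVThetaLib.XTmap_eq]
  exact pullA_XTmap_eq_zero_iff hF v

end AVDualLib
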