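import Groth.Agent.AVDualLib.Fam
import Groth.Agent.AVIndexLib.TopPoinc
import Groth.Agent.AVIndexLib.DualBC

/-!
The cohomology of a difference of two families with finite triviality locus.
-/

set_option autoImplicit false
set_option maxHeartbeats 1000000
set_option maxRecDepth 8000
set_option backward.isDefEq.respectTransparency false
set_option linter.style.haveILetI false
set_option linter.unusedSectionVars false

noncomputable section

universe u

open CategoryTheory CategoryTheory.Limits MonoidalCategory CartesianMonoidalCategory MonObj AlgebraicGeometry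
open TopologicalSpace CohCmpLib
open CubeConsLib AVVanishLib AVAmpleLib AVIndexLib

namespace AVDualLib

variable {k : Type u} [Field k]

theorem P_eq' {X V : Over (Spec (CommRingCat.of k))} {M : X.left.Modules} (hM : PicF.IsInvertible M) (f : V ⟶ X) :
    P hM f = pullA f.left (clA hM) := rfl

/-- The fibres of a sum of two families algebraically equivalent to zero have no cohomology where it is non-trivial. -/
theorem subsingleton_fiberH_of_sum {A T : Over (Spec (CommRingCat.of k))} [GrpObj A] [IsProper A.hom]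
    [GeometricallyIntegral A.hom] {Λ : (PicF.XT A.hom T).Modules} (hΛ : PicF.IsInvertible Λ)
    {F₁ F₂ : (PicF.XT A.hom T).Modules} (h₁ : PicF.IsInvertible F₁) (h₂ : PicF.IsInvertible F₂)
    (h₁0 : AddFam (clA h₁ : PicA (A ⊗ T).left)) (h₂0 : AddFam (clA h₂ : PicA (A ⊗ T).left))
    (hsum : clA hΛ = clA h₁ + clA h₂) {g : ℕ} (hg : topologicalKrullDim A.left = (g : ℕ))
    (y : T.left) (p : ℕ)
    (h : g < p ∨ ∀ (Ω : Type u) [Field Ω] (σ : Spec (CommRingCat.of Ω) ⟶ T.left),
      σ (IsLocalRing.closedPoint Ω) = y → pullA (Limits.pullback.fst (PicF.XTproj A.hom T) σ) (clA hΛ) ≠ 0) :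
    Subsingleton (CohIII.fiberH (PicF.XTproj A.hom T) Λ y p) := by
  let q := PicF.XTproj A.hom T
  let pr := Limits.pullback.fst A.hom T.hom
  haveI : IsProper q := MorphismProperty.pullback_snd (P := @IsProper) A.hom T.hom ‹_›
  let K : Type u := T.left.residueField y
  let Ω : Type u := AlgebraicClosure K
  let ψΩ := Spec.map (CommRingCat.ofHom (algebraMap K Ω))
  let σ : Spec (CommRingCat.of Ω) ⟶ T.left := ψΩ ≫ T.left.fromSpecResidueField y
  let ψk : CommRingCat.of k ⟶ CommRingCat.of Ω := Spec.preimage (σ ≫ T.hom)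
  letI : Algebra k Ω := ψk.hom.toAlgebra
  have hξ : Spec.map (CommRingCat.ofHom (algebraMap k Ω)) = σ ≫ T.hom := Spec.map_preimage _
  let AΩ := (bcF Ω).obj A
  letI : GrpObj AΩ := Functor.grpObjObj
  haveI : IsProper AΩ.hom := inferInstanceAs (IsProper (Limits.pullback.snd A.hom _))
  haveI : GeometricallyIntegral AΩ.hom := inferInstanceAs (GeometricallyIntegral (Limits.pullback.snd A.hom _))
  letI : AΩ.left.Over (Spec (CommRingCat.of Ω)) := ⟨AΩ.hom⟩
  haveI : IsProper (AΩ.left ↘ Spec (CommRingCat.of Ω)) := ‹IsProper AΩ.hom›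
  let pA : AΩ.left ⟶ A.left := prBc Ω
  let sA : AΩ.left ⟶ Spec (CommRingCat.of Ω) := AΩ.hom
  have hpA : pA ≫ A.hom = sA ≫ σ ≫ T.hom := by
    rw [← hξ]
    exact Limits.pullback.condition
  let j : AΩ.left ⟶ PicF.XT A.hom T := Limits.pullback.lift pA (sA ≫ σ) (by rw [Category.assoc]; exact hpA)
  have hj1 : j ≫ pr = pA := Limits.pullback.lift_fst _ _ _
  have hj2 : j ≫ q = sA ≫ σ := Limits.pullback.lift_snd _ _ _
  -- the geometric fibre inside the extension of the fibre
  let XK : Over (Spec (CommRingCat.of K)) := Over.mk (q.fiberToSpecResidueField y)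
  haveI : IsProper XK.hom := MorphismProperty.pullback_snd (P := @IsProper) _ _ ‹IsProper q›
  let W := ((bcF Ω).obj XK).left
  let θ : AΩ.left ⟶ W := Limits.pullback.lift (Limits.pullback.lift j (sA ≫ ψΩ) (by
    rw [Category.assoc]; exact hj2)) sA (Limits.pullback.lift_snd _ _ _)
  let θ' : W ⟶ AΩ.left := Limits.pullback.lift (prBc Ω ≫ q.fiberι y ≫ pr) ((bcF Ω).obj XK).hom (by
    rw [hξ, Category.assoc, Category.assoc, show pr ≫ A.hom = q ≫ T.hom from Limits.pullback.condition,
      ← Category.assoc (q.fiberι y), q.fiber_fac, Category.assoc]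
    exact ((Category.assoc _ _ _).symm.trans
      ((congrArg (· ≫ T.left.fromSpecResidueField y ≫ T.hom) Limits.pullback.condition).trans
        (by simp only [σ, Category.assoc]; rfl))))
  have hθ1 : θ ≫ prBc Ω ≫ q.fiberι y = j := by
    rw [← Category.assoc, show θ ≫ prBc Ω = _ from Limits.pullback.lift_fst _ _ _]
    exact Limits.pullback.lift_fst _ _ _
  have hθ2 : θ ≫ ((bcF Ω).obj XK).hom = sA := Limits.pullback.lift_snd _ _ _
  haveI : IsIso θ := by
    refine ⟨θ', ?_, ?_⟩
    · apply Limits.pullback.hom_ext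
      · rw [Category.assoc, show θ' ≫ Limits.pullback.fst A.hom _ = _ from Limits.pullback.lift_fst _ _ _,
          ← Category.assoc (prBc Ω), ← Category.assoc θ, hθ1, hj1, Category.id_comp]
      · rw [Category.assoc, show θ' ≫ Limits.pullback.snd A.hom _ = _ from Limits.pullback.lift_snd _ _ _, hθ2,
          Category.id_comp]
        rfl
    · apply Limits.pullback.hom_ext
      · rw [Category.assoc, show θ ≫ Limits.pullback.fst _ _ = _ from Limits.pullback.lift_fst _ _ _, Category.id_comp]
        apply Limits.pullback.hom_ext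
        · rw [Category.assoc, Limits.pullback.lift_fst]
          apply Limits.pullback.hom_ext
          · exact ((Category.assoc _ _ _).trans (congrArg (θ' ≫ ·) hj1)).trans
              ((Limits.pullback.lift_fst _ _ _).trans (Category.assoc _ _ _).symm)
          · refine ((Category.assoc _ _ _).trans (congrArg (θ' ≫ ·) hj2)).trans ?_
            refine ((Category.assoc _ _ _).symm.trans
              (congrArg (· ≫ σ) (Limits.pullback.lift_snd _ _ _))).trans ?_
            refine (Category.assoc _ _ _).symm.trans ?_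
            refine Eq.trans ?_ ((Category.assoc _ _ _).trans (congrArg (prBc Ω ≫ ·) (q.fiber_fac y).symm) |>.trans
              (Category.assoc _ _ _).symm)
            exact congrArg (· ≫ T.left.fromSpecResidueField y) Limits.pullback.condition.symm
        · rw [Category.assoc, Limits.pullback.lift_snd]
          refine ((Category.assoc _ _ _).symm.trans
            (congrArg (· ≫ ψΩ) (Limits.pullback.lift_snd _ _ _))).trans ?_
          exact Limits.pullback.condition.symm
      · rw [Category.assoc, show θ ≫ Limits.pullback.snd _ _ = _ from Limits.pullback.lift_snd _ _ _, Category.id_comp]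
        exact Limits.pullback.lift_snd _ _ _
  have hFK := AmpleDevLib.isInvertible_pb (q.fiberι y) hΛ
  have hM := AmpleDevLib.isInvertible_pb j hΛ
  refine (subsingleton_HH_bc_iff Ω (X := XK) hFK p).1 ((subsingleton_HH_iff_of_iso θ _ p).1 ?_)
  refine SerreVanLib.subsingleton_HH_of_iso ((Scheme.Modules.pullback θ).mapIso
    ((Scheme.Modules.pullbackComp (prBc (X := XK) Ω) (q.fiberι y)).app Λ) ≪≫
    (Scheme.Modules.pullbackComp θ (prBc (X := XK) Ω ≫ q.fiberι y)).app Λ ≪≫
    (Scheme.Modules.pullbackCongr hθ1).app Λ) p ?_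
  rcases h with hp | hnt
  · haveI := CurvLib.isNoetherian Ω (X := AΩ.left)
    exact CurvLib.subsingleton_HH_of_dim_le (X := AΩ.left) _ ((dim_pullback_eq A).trans hg).le p hp
  have hσ : ∀ x, σ x = y := fun x => T.left.fromSpecResidueField_apply y _
  have hpart : ∀ {F : (PicF.XT A.hom T).Modules} (hF : PicF.IsInvertible F),
      AddFam (clA hF : PicA (A ⊗ T).left) → IsAdditive (AmpleDevLib.isInvertible_pb j hF) := by
    intro F hF hF0
    let t := Spec.map (CommRingCat.ofHom (algebraMap k Ω))
    let V : Over (Spec (CommRingCat.of k)) := dn t (AΩ ⊗ AΩ)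
    let s : V ⟶ T := Over.homMk ((AΩ ⊗ AΩ).hom ≫ σ) (by
      show ((AΩ ⊗ AΩ).hom ≫ σ) ≫ T.hom = (AΩ ⊗ AΩ).hom ≫ t
      exact (Category.assoc _ _ _).trans (congrArg (_ ≫ ·) hξ.symm))
    have e : ∀ f : AΩ ⊗ AΩ ⟶ AΩ,
        P (AmpleDevLib.isInvertible_pb j hF) f = ev (clA hF : PicA (A ⊗ T).left) (toDn t f) s := fun f => by
      rw [P_eq', ← pullA_clA j hF, pullA_comp, ev]
      congr 2
      apply Limits.pullback.hom_ext
      · rw [Category.assoc]
        exact (congrArg (f.left ≫ ·) hj1).trans (congrArg Over.Hom.left (lift_fst (toDn t f) s)).symm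
      · rw [Category.assoc]
        refine (congrArg (f.left ≫ ·) hj2).trans (Eq.trans ?_ (congrArg Over.Hom.left (lift_snd (toDn t f) s)).symm)
        rw [← Category.assoc, show f.left ≫ sA = (AΩ ⊗ AΩ).hom from Over.w f]
        rfl
    have e1 : ev (clA hF : PicA (A ⊗ T).left) 1 s = 0 := by
      let V₀ : Over (Spec (CommRingCat.of k)) := AbDual.ovr T σ
      let h : V ⟶ V₀ := Over.homMk (AΩ ⊗ AΩ).hom (by
        show (AΩ ⊗ AΩ).hom ≫ σ ≫ T.hom = (AΩ ⊗ AΩ).hom ≫ t
        exact congrArg (_ ≫ ·) hξ.symm)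
      have hs : lift (1 : V ⟶ A) s = h ≫ lift 1 (AbDual.ovrHom T σ) := by
        rw [comp_lift, MonObj.comp_one]
        congr 1
      rw [ev, hs, Over.comp_left, ← pullA_comp]
      exact (congrArg (pullA h.left) ((pullA_clA _ hF).trans (clA_eq_zero_of_local Ω _))).trans (map_zero _)
    have := hF0 V (toDn t (fst AΩ AΩ)) (toDn t (snd AΩ AΩ)) s
    rw [← toDn_mul, e1, sub_zero, ← e, ← e, ← e] at this
    exact this
  have hadd : IsAdditive hM := by
    have e : clA hM = clA (AmpleDevLib.isInvertible_pb j h₁) + clA (AmpleDevLib.isInvertible_pb j h₂) := by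
      rw [← pullA_clA j hΛ, ← pullA_clA j h₁, ← pullA_clA j h₂, hsum, map_add]
    have eP : ∀ f : AΩ ⊗ AΩ ⟶ AΩ, P hM f = P (AmpleDevLib.isInvertible_pb j h₁) f +
        P (AmpleDevLib.isInvertible_pb j h₂) f := fun f => by rw [P_eq', P_eq', P_eq', e, map_add]
    have a1 := hpart h₁ h₁0
    have a2 := hpart h₂ h₂0
    unfold IsAdditive at a1 a2 ⊢
    rw [eP, eP, eP, a1, a2]
    abel
  refine AVVanishLib.subsingleton_HH hadd (fun ⟨e⟩ => hnt Ω σ (hσ _) ?_) p
  have h0 : pullA j (clA hΛ) = 0 := by
    rw [pullA_clA _ hΛ, ← clA_one, clA_eq_iff]; exact ⟨e⟩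
  let s' : Limits.pullback q σ ⟶ AΩ.left :=
    Limits.pullback.lift (Limits.pullback.fst q σ ≫ pr) (Limits.pullback.snd q σ) (by
      rw [hξ, Category.assoc, show pr ≫ A.hom = q ≫ T.hom from Limits.pullback.condition,
        Limits.pullback.condition_assoc])
  have hs' : s' ≫ j = Limits.pullback.fst q σ := by
    apply Limits.pullback.hom_ext
    · exact ((Category.assoc _ _ _).trans (congrArg (s' ≫ ·) hj1)).trans (Limits.pullback.lift_fst _ _ _)
    · refine ((Category.assoc _ _ _).trans (congrArg (s' ≫ ·) hj2)).trans ?_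
      refine ((Category.assoc _ _ _).symm.trans (congrArg (· ≫ σ) (Limits.pullback.lift_snd _ _ _))).trans ?_
      exact Limits.pullback.condition.symm
  rw [← hs', ← pullA_comp]
  exact (congrArg (pullA s') h0).trans (map_zero _)

/-- The top cohomology of a difference of two families with finite triviality locus counts the locus. -/
theorem top_count {A S : Over (Spec (CommRingCat.of k))} [GrpObj A] [IsProper A.hom] [GeometricallyIntegral A.hom]
    [IsProper S.hom] {g : ℕ} (hg0 : 0 < g) (hg : topologicalKrullDim A.left = (g : ℕ))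
    (hreg : ∀ z : S.left, IsClosed ({z} : Set S.left) → ∃ rs : List (S.left.presheaf.stalk z),
      RingTheory.Sequence.IsWeaklyRegular (S.left.presheaf.stalk z) rs ∧ g ≤ rs.length ∧
        ∀ x ∈ rs, x ∈ IsLocalRing.maximalIdeal (S.left.presheaf.stalk z))
    {F F₁ F₂ : (PicF.XT A.hom S).Modules} (hF : PicF.IsInvertible F) (h₁ : PicF.IsInvertible F₁)
    (h₂ : PicF.IsInvertible F₂) (h₁0 : AddFam (clA h₁ : PicA (A ⊗ S).left))
    (h₂0 : AddFam (clA h₂ : PicA (A ⊗ S).left)) (hsum : clA hF = clA h₁ + clA h₂)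
    {Z : Scheme.{u}} (i : Z ⟶ S.left) [IsClosedImmersion i] [IsFinite (i ≫ S.hom)]
    (hiff : ∀ (C : Type u) [CommRing C] [IsLocalRing C] [IsNoetherianRing C] (v : Spec (CommRingCat.of C) ⟶ S.left),
      pullA (A ◁ AbDual.ovrHom S v).left (clA hF : PicA (A ⊗ S).left) = 0 ↔ ∃ w, w ≫ i = v) :
    @Module.finrank k (Coh.HH (PicF.XT A.hom S) F g) _ _
        (@Coh.moduleOver k _ (PicF.XT A.hom S) ⟨PicF.XTproj A.hom S ≫ S.hom⟩ F g) =
      @Module.finrank k Γ(Z, ⊤) _ _ (Module.compHom Γ(Z, ⊤) (show k →+* Γ(Z, ⊤) from Coh.toGlobal (i ≫ S.hom))) := by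
  let q := PicF.XTproj A.hom S
  haveI : LocallyOfFinitePresentation A.hom := LocallyOfFinitePresentation.iff_locallyOfFiniteType.2 inferInstance
  haveI : IsProper q := MorphismProperty.pullback_snd (P := @IsProper) A.hom S.hom ‹_›
  haveI : Flat q := MorphismProperty.pullback_snd (P := @Flat) A.hom S.hom inferInstance
  haveI : LocallyOfFinitePresentation q :=
    MorphismProperty.pullback_snd (P := @LocallyOfFinitePresentation) A.hom S.hom inferInstance
  haveI : GeometricallyIntegral q := inferInstanceAs (GeometricallyIntegral (Limits.pullback.snd A.hom S.hom))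
  haveI : IsLocallyNoetherian S.left := LocallyOfFiniteType.isLocallyNoetherian S.hom
  have hout : ∀ y p, (g < p ∨ y ∉ Set.range i) → Subsingleton (CohIII.fiberH q F y p) := fun y p h =>
    subsingleton_fiberH_of_sum hF h₁ h₂ h₁0 h₂0 hsum hg y p (h.imp id fun hy Ω _ σ hσ h0 => hy (by
      obtain ⟨w, hw⟩ := (hiff Ω σ).1 ((pullA_ovrHom_eq_zero_iff A hF σ).2 h0)
      exact ⟨w (IsLocalRing.closedPoint Ω), by rw [← Scheme.Hom.comp_apply, hw, hσ]⟩))
  obtain ⟨-, -, -, -, hdim⟩ := family_top (IsPullback.of_hasPullback A.hom S.hom) hF hg0 i hreg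
    (fun y p h => hout y p (Or.inr h)) (fun y p h => hout y p (Or.inl h)) fun w I hI => by
      haveI : Nontrivial (S.left.presheaf.stalk (i w) ⧸ I) := Ideal.Quotient.nontrivial_iff.2 fun h =>
        (IsLocalRing.maximalIdeal.isMaximal _).ne_top (top_le_iff.1 (h ▸ hI))
      haveI : IsLocalRing (S.left.presheaf.stalk (i w) ⧸ I) :=
        IsLocalRing.of_surjective' _ Ideal.Quotient.mk_surjective
      rw [trivOver_iff_pullA hF, ← pullA_ovrHom_eq_zero_iff A hF]
      exact hiff _ _
  exact hdim

end AVDualLib
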