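import Groth.Agent.AVDualLib.Locus
import Groth.Agent.AVDualLib.Count
import Groth.Agent.PushLinLib.HH
import Groth.Agent.AVAmpleLib.TateLattice
import Groth.Agent.AVIndexLib.SwapFam
import Mathlib.RingTheory.Regular.Flat

/-!
Families over Artinian bases come from points.
-/

set_option autoImplicit false
set_option maxHeartbeats 1000000
set_option maxRecDepth 8000
set_option backward.isDefEq.respectTransparency false
set_option linter.style.haveILetI false
set_option linter.unusedSectionVars false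

noncomputable section

universe u

open CategoryTheory CategoryTheory.Limits MonoidalCategory CartesianMonoidalCategory MonObj AlgebraicGeometry
open TopologicalSpace
open CubeConsLib AVVanishLib AVAmpleLib AVIndexLib

namespace AVDualLib

variable {k : Type u} [Field k]

theorem finrank_HH_of_iso {X Y : Scheme.{u}} (σ : X ⟶ Y) [IsIso σ] (cY : Y ⟶ Spec (CommRingCat.of k))
    [QuasiCompact cY] [IsSeparated cY] (cX : X ⟶ Spec (CommRingCat.of k)) (h : σ ≫ cY = cX) (F : Y.Modules)
    [Coh.IsQCoh F] [Coh.IsQCoh ((Scheme.Modules.pullback σ).obj F)] (n : ℕ) :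
    @Module.finrank k (Coh.HH X ((Scheme.Modules.pullback σ).obj F) n) _ _
        (@Coh.moduleOver k _ X ⟨cX⟩ ((Scheme.Modules.pullback σ).obj F) n) =
      @Module.finrank k (Coh.HH Y F n) _ _ (@Coh.moduleOver k _ Y ⟨cY⟩ F n) := by
  letI : X.Over (Spec (CommRingCat.of k)) := ⟨cX⟩
  letI : Y.Over (Spec (CommRingCat.of k)) := ⟨cY⟩
  have hk : ClSub.KilledByIdeal σ.ker F := by
    intro U a ha m
    rw [Scheme.Hom.ker_apply, RingHom.mem_ker] at ha
    have : a = 0 := (ConcreteCategory.bijective_of_isIso (σ.app U.1)).1 (ha.trans (map_zero _).symm)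
    rw [this, zero_smul]
  haveI := DevissLib.isIso_unit_of_killed σ hk
  haveI : QuasiCompact (Y ↘ Spec (CommRingCat.of k)) := ‹QuasiCompact cY›
  haveI : IsSeparated (Y ↘ Spec (CommRingCat.of k)) := ‹IsSeparated cY›
  have e1 := (PushLinLib.euler_push k σ h ((Scheme.Modules.pullback σ).obj F)).1 n
  rw [e1]
  exact (CurvLib.hIso (k := k) (asIso ((Scheme.Modules.pullbackPushforwardAdjunction σ).unit.app F)) n).finrank_eq.symm

variable [IsAlgClosed k]

/-- A finite scheme with one point has one rational point. -/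
theorem pt_unique {T : Over (Spec (CommRingCat.of k))} [LocallyOfFiniteType T.hom] [Subsingleton T.left]
    (w w' : 𝟙_ (Over (Spec (CommRingCat.of k))) ⟶ T) : w = w' :=
  Over.OverMorphism.ext (ext_of_apply_closedPoint_eq T.hom (Over.w w) (Over.w w') (Subsingleton.elim _ _))

variable {A : Over (Spec (CommRingCat.of k))} [GrpObj A] [IsProper A.hom] [GeometricallyIntegral A.hom]

theorem exists_regular_seq_prod {T : Over (Spec (CommRingCat.of k))} [IsFinite T.hom] {g : ℕ}
    (hg : topologicalKrullDim A.left = (g : ℕ)) (z : (A ⊗ T).left) (hz : IsClosed ({z} : Set (A ⊗ T).left)) :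
    ∃ rs : List ((A ⊗ T).left.presheaf.stalk z),
      RingTheory.Sequence.IsWeaklyRegular ((A ⊗ T).left.presheaf.stalk z) rs ∧ g ≤ rs.length ∧
        ∀ x ∈ rs, x ∈ IsLocalRing.maximalIdeal ((A ⊗ T).left.presheaf.stalk z) := by
  let p : (A ⊗ T).left ⟶ A.left := (fst A T).left
  haveI : Flat T.hom := inferInstance
  haveI : IsFinite p := MorphismProperty.pullback_fst (P := @IsFinite) A.hom T.hom ‹_›
  haveI : Flat p := MorphismProperty.pullback_fst (P := @Flat) A.hom T.hom inferInstance
  have hpz : IsClosed ({p z} : Set A.left) := by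
    rw [← Set.image_singleton]
    exact p.isClosedMap _ hz
  obtain ⟨rs, hrs, hlen, hm⟩ := exists_regular_seq hg (p z) hpz
  letI : Algebra (A.left.presheaf.stalk (p z)) ((A ⊗ T).left.presheaf.stalk z) := (p.stalkMap z).hom.toAlgebra
  haveI : Module.Flat (A.left.presheaf.stalk (p z)) ((A ⊗ T).left.presheaf.stalk z) := Flat.stalkMap p z
  refine ⟨rs.map (algebraMap _ _), hrs.of_flat, by rwa [List.length_map], fun x hx => ?_⟩
  obtain ⟨y, hy, rfl⟩ := List.mem_map.1 hx
  exact (IsLocalRing.mem_maximalIdeal _).2 (map_nonunit (p.stalkMap z).hom y ((IsLocalRing.mem_maximalIdeal _).1 (hm y hy)))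

variable {L : A.left.Modules} {hL : PicF.IsInvertible L}

/-- Over an Artinian local base every family comes from a point. -/
theorem exists_section_artin (hp : Principal hL) {T : Over (Spec (CommRingCat.of k))} [IsFinite T.hom]
    [Subsingleton T.left] {Fc : (PicF.XT A.hom T).Modules} (hc : PicF.IsInvertible Fc)
    (hc0 : AddFam (clA hc : PicA (A ⊗ T).left)) :
    ∃ v : T ⟶ A ⊗ T, v ≫ snd A T = 𝟙 T ∧ Represents hL (clA hc) v := by
  haveI : IsCommMonObj A := isCommMonObj_field
  haveI : IsIntegral A.left := GeometricallyIntegral.isIntegral_of_subsingleton A.hom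
  obtain ⟨g, hg⟩ := AVAmpleLib.exists_dim_field A
  let c : PicA (A ⊗ T).left := clA hc
  rcases Nat.eq_zero_or_pos g with rfl | hg0
  · haveI : Subsingleton A.left := subsingleton_of_dim_zero hg
    haveI := isIso_hom_point A
    refine ⟨lift 1 (𝟙 T), lift_snd _ _, _, AmpleDevLib.isInvertible_pb (lift (1 : T ⟶ A) (𝟙 T)).left hc, ?_⟩
    have e : snd A T ≫ lift (1 : T ⟶ A) (𝟙 T) = 𝟙 _ := CartesianMonoidalCategory.hom_ext _ _
      (Over.OverMorphism.ext ((cancel_mono A.hom).1 ((Over.w _).trans (Over.w _).symm)))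
      (by rw [Category.assoc, lift_snd, Category.comp_id, Category.id_comp])
    rw [lift_snd, lift_fst, Lam_one, zero_add, whiskerLeft_id, ← pullA_clA _ hc, pullA_comp, ← Over.comp_left, e]
    rfl
  obtain ⟨F, F₁, F₂, hF, h₁, h₂, h₁0, h₂0, hs, e₁, e₂⟩ := exists_diff (hL := hL) hc hc0
  have e : (clA hF : PicA (A ⊗ (A ⊗ T)).left) = pullA (A ◁ snd A T).left c + Lam hL (fst A T)⁻¹ := by
    rw [← e₁, ← e₂]; exact hs
  haveI : IsProper T.hom := inferInstance
  haveI : IsProper (A ⊗ T).hom := inferInstanceAs (IsProper (Limits.pullback.fst A.hom T.hom ≫ A.hom))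
  haveI : IsProper (A ⊗ (A ⊗ T)).hom :=
    inferInstanceAs (IsProper (Limits.pullback.fst A.hom (A ⊗ T).hom ≫ A.hom))
  haveI : HasInjectiveResolutions (PicF.XT A.hom (A ⊗ T)).Modules := inferInstance
  obtain ⟨Z, i, hi, hmono, huniv, hfac⟩ := exists_locus (hL := hL) hp hc hc0
  haveI := hi
  haveI := hmono
  let π := i ≫ snd A T
  -- the locus is finite
  haveI : IsProper (i.left ≫ (A ⊗ T).hom) := inferInstance
  haveI : IsProper Z.hom := Over.w i ▸ ‹IsProper (i.left ≫ (A ⊗ T).hom)›
  haveI : JacobsonSpace Z.left := LocallyOfFiniteType.jacobsonSpace Z.hom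
  have hsub : (closedPoints Z.left).Subsingleton := fun x hx y hy => by
    let w : 𝟙_ (Over (Spec (CommRingCat.of k))) ⟶ Z :=
      Over.homMk (pointOfClosedPoint Z.hom x hx) (pointOfClosedPoint_comp Z.hom x hx)
    let w' : 𝟙_ (Over (Spec (CommRingCat.of k))) ⟶ Z :=
      Over.homMk (pointOfClosedPoint Z.hom y hy) (pointOfClosedPoint_comp Z.hom y hy)
    have : w = w' := (cancel_mono π).1 (pt_unique _ _)
    have := congrArg (fun f : _ ⟶ Z => f.left (IsLocalRing.closedPoint k)) this
    exact ((pointOfClosedPoint_apply Z.hom x hx _).symm.trans this).trans (pointOfClosedPoint_apply Z.hom y hy _)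
  haveI : Finite Z.left := by
    have h := closure_closedPoints (X := Z.left)
    rw [(show IsClosed (closedPoints Z.left) from by
      rcases hsub.eq_empty_or_singleton with h' | ⟨x, hx⟩
      · rw [h']; exact isClosed_empty
      · rw [hx]; exact mem_closedPoints_iff.1 (hx ▸ Set.mem_singleton x : x ∈ closedPoints Z.left)).closure_eq] at h
    exact Set.finite_univ_iff.1 (h ▸ hsub.finite)
  haveI : LocallyQuasiFinite Z.hom := LocallyQuasiFinite.of_finite_preimage_singleton _ fun x => Set.toFinite _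
  haveI : IsFinite Z.hom := IsFinite.of_isProper_of_locallyQuasiFinite _
  haveI : IsFinite (i.left ≫ (A ⊗ T).hom) := by rw [Over.w i]; infer_instance
  have hreg := exists_regular_seq_prod (T := T) hg
  have count1 := top_count hg0 hg hreg hF h₁ h₂ h₁0 h₂0 hs i.left fun C _ _ _ v => by
    haveI : IsLocallyNoetherian (AbDual.ovr (A ⊗ T) v).left :=
      inferInstanceAs (IsLocallyNoetherian (Spec (CommRingCat.of C)))
    constructor
    · intro h0
      obtain ⟨w, hw⟩ := hfac _ ‹_› (AbDual.ovrHom (A ⊗ T) v) ((represents_iff hF e _).2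
        ⟨_, isInvertible_one (AbDual.ovr (A ⊗ T) v).left, by rw [h0, clA_one, map_zero]⟩)
      exact ⟨w.left, congrArg Over.Hom.left hw⟩
    · rintro ⟨w, hw⟩
      let w' : AbDual.ovr (A ⊗ T) v ⟶ Z := Over.homMk w (by
        show w ≫ Z.hom = v ≫ (A ⊗ T).hom
        rw [← hw, Category.assoc, Over.w i])
      have hw' : w' ≫ i = AbDual.ovrHom (A ⊗ T) v := Over.OverMorphism.ext hw
      obtain ⟨M, hM, eM⟩ := (represents_iff hF e _).1 (hw' ▸ huniv.comp w')
      rw [eM, clA_eq_zero_of_local C hM, map_zero]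
  -- the swapped family
  let σ : A ⊗ (A ⊗ T) ⟶ A ⊗ (A ⊗ T) := lift (snd _ _ ≫ fst A T) (lift (fst _ _) (snd _ _ ≫ snd A T))
  have hσσ : σ ≫ σ = 𝟙 _ := by
    simp only [σ, comp_lift, lift_fst, lift_snd_assoc, lift_snd]
    refine CartesianMonoidalCategory.hom_ext _ _ ?_ (CartesianMonoidalCategory.hom_ext _ _ ?_ ?_) <;> simp
  haveI : IsIso σ.left := ⟨σ.left, by rw [← Over.comp_left, hσσ]; rfl, by rw [← Over.comp_left, hσσ]; rfl⟩
  have hF' := AmpleDevLib.isInvertible_pb σ.left hF
  have h₁' := AmpleDevLib.isInvertible_pb σ.left h₁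
  have h₂' := AmpleDevLib.isInvertible_pb σ.left h₂
  have b1 : (clA h₁' : PicA (A ⊗ (A ⊗ T)).left) = pullA (snd A (A ⊗ T)).left c := by
    rw [← pullA_clA σ.left h₁]
    show pullA σ.left (clA h₁ : PicA (A ⊗ (A ⊗ T)).left) = _
    rw [e₁, pullA_comp, ← Over.comp_left]
    congr 3
    refine CartesianMonoidalCategory.hom_ext _ _ ?_ ?_ <;> simp [σ]
  have b2 : (clA h₂' : PicA (A ⊗ (A ⊗ T)).left) = clA h₂ := by
    rw [← pullA_clA σ.left h₂]
    show pullA σ.left (clA h₂ : PicA (A ⊗ (A ⊗ T)).left) = _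
    rw [e₂, Lam_inv, map_neg, Lam, pullA_lam, lam_comm]
    congr 2 <;> simp [σ]
  have h₁'0 : AddFam (clA h₁' : PicA (A ⊗ (A ⊗ T)).left) := b1 ▸ addFam_base c
  have h₂'0 : AddFam (clA h₂' : PicA (A ⊗ (A ⊗ T)).left) := b2 ▸ h₂0
  have hs' : clA hF' = clA h₁' + clA h₂' := by
    rw [← pullA_clA _ hF, ← pullA_clA _ h₁, ← pullA_clA _ h₂, hs, map_add]
  let i₂ : T ⟶ A ⊗ T := lift 1 (𝟙 T)
  haveI : IsClosedImmersion i₂.left := by
    haveI : IsSeparated (snd A T).left := MorphismProperty.pullback_snd (P := @IsSeparated) A.hom T.hom inferInstance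
    haveI : IsClosedImmersion (i₂.left ≫ (snd A T).left) := by
      rw [← Over.comp_left, lift_snd]; exact inferInstanceAs (IsClosedImmersion (𝟙 T.left))
    exact IsClosedImmersion.of_comp i₂.left (snd A T).left
  haveI : IsFinite (i₂.left ≫ (A ⊗ T).hom) := by rw [Over.w i₂]; infer_instance
  have count2 := top_count hg0 hg hreg hF' h₁' h₂' h₁'0 h₂'0 hs' i₂.left fun C _ _ _ v => by
    let v' := AbDual.ovrHom (A ⊗ T) v
    have h0 : pullA (A ◁ v').left (pullA (snd A (A ⊗ T)).left c) = 0 := by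
      rw [pullA_comp, ← Over.comp_left, whiskerLeft_snd, Over.comp_left, ← pullA_comp]
      exact (congrArg (pullA (snd A _).left) ((pullA_clA v'.left hc).trans
        (clA_eq_zero_of_local C _))).trans (map_zero _)
    have hcl : pullA (A ◁ v').left (clA hF' : PicA (A ⊗ (A ⊗ T)).left) = -Lam hL (v' ≫ fst A T) := by
      rw [show (clA hF' : PicA (A ⊗ (A ⊗ T)).left) = clA h₁' + clA h₂' from hs', b1, b2, map_add, h0, e₂, pullA_Lam,
        GrpObj.comp_inv, Lam_inv, zero_add]
    rw [hcl, neg_eq_zero]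
    constructor
    · intro h
      refine ⟨(v' ≫ snd A T).left, ?_⟩
      have : (v' ≫ snd A T) ≫ i₂ = v' := CartesianMonoidalCategory.hom_ext _ _
        (by rw [Category.assoc, lift_fst, MonObj.comp_one, hp.eq_one_of_Lam h])
        (by rw [Category.assoc, lift_snd, Category.comp_id])
      exact congrArg Over.Hom.left this
    · rintro ⟨w, hw⟩
      let w' : AbDual.ovr (A ⊗ T) v ⟶ T := Over.homMk w (by
        show w ≫ T.hom = v ≫ (A ⊗ T).hom
        rw [← hw, Category.assoc, Over.w i₂])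
      have hw' : w' ≫ i₂ = v' := Over.OverMorphism.ext hw
      rw [← hw', Category.assoc, lift_fst, MonObj.comp_one, Lam_one]
  -- comparison
  haveI : Coh.IsQCoh F := (CurvLib.isCoh_of_isInvertible hF).1
  haveI : Coh.IsQCoh ((Scheme.Modules.pullback σ.left).obj F) := (CurvLib.isCoh_of_isInvertible hF').1
  have hX : PicF.XTproj A.hom (A ⊗ T) ≫ (A ⊗ T).hom = (A ⊗ (A ⊗ T)).hom := Over.w (snd A (A ⊗ T))
  have hcmp := finrank_HH_of_iso σ.left (A ⊗ (A ⊗ T)).hom (A ⊗ (A ⊗ T)).hom (Over.w σ) F g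
  rw [hX] at count1 count2
  have hdim := count1.symm.trans (hcmp.symm.trans count2)
  rw [Over.w i, Over.w i₂] at hdim
  -- the projection to the base is an isomorphism
  haveI : IsProper π.left := by
    haveI : IsProper (π.left ≫ T.hom) := by rw [Over.w π]; infer_instance
    exact IsProper.of_comp π.left T.hom
  haveI : Mono π.left := inferInstance
  haveI : IsClosedImmersion π.left := (IsClosedImmersion.iff_isProper_and_mono _).2 ⟨‹_›, ‹_›⟩
  haveI : IsAffine T.left := isAffine_of_isAffineHom T.hom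
  haveI : IsAffine Z.left := isAffine_of_isAffineHom Z.hom
  letI : Algebra k Γ(Z.left, ⊤) := (Coh.toGlobal Z.hom : k →+* Γ(Z.left, ⊤)).toAlgebra
  letI : Algebra k Γ(T.left, ⊤) := (Coh.toGlobal T.hom : k →+* Γ(T.left, ⊤)).toAlgebra
  let f : Γ(T.left, ⊤) →ₐ[k] Γ(Z.left, ⊤) :=
    { π.left.appTop.hom with
      commutes' := fun r => by
        show π.left.appTop (T.hom.appTop ((Scheme.ΓSpecIso (CommRingCat.of k)).inv r)) =
          Z.hom.appTop ((Scheme.ΓSpecIso (CommRingCat.of k)).inv r)
        rw [← Over.w π, Scheme.Hom.comp_appTop, ConcreteCategory.comp_apply] }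
  haveI : Module.Finite k Γ(T.left, ⊤) := T.hom.finite_appTop.comp (RingHom.Finite.of_surjective _
      (ConcreteCategory.bijective_of_isIso (Scheme.ΓSpecIso (CommRingCat.of k)).inv).2)
  haveI : Module.Finite k Γ(Z.left, ⊤) := Z.hom.finite_appTop.comp (RingHom.Finite.of_surjective _
      (ConcreteCategory.bijective_of_isIso (Scheme.ΓSpecIso (CommRingCat.of k)).inv).2)
  have hsurj : Function.Surjective f := π.left.app_surjective ⊤ (isAffineOpen_top T.left)
  have hbij : Function.Bijective f :=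
    ⟨(f.toLinearMap.injective_iff_surjective_of_finrank_eq_finrank hdim.symm).2 hsurj, hsurj⟩
  haveI : IsIso π.left.appTop := (ConcreteCategory.isIso_iff_bijective _).2 hbij
  haveI : IsIso π.left := (HasAffineProperty.iff_of_isAffine (P := MorphismProperty.isomorphisms Scheme.{u})
    (f := π.left)).2 ⟨‹_›, ‹_›⟩
  haveI : IsIso ((Over.forget _).map π) := ‹IsIso π.left›
  haveI : IsIso π := isIso_of_reflects_iso π (Over.forget _)
  exact ⟨inv π ≫ i, (Category.assoc _ _ _).trans (IsIso.inv_hom_id π), huniv.comp (inv π)⟩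

end AVDualLib
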