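import Groth.Agent.AVDualLib.Noeth
import Groth.Agent.ConsLib.FGSystem
import Groth.Agent.GenusZeroLib.Embed
import Groth.Agent.RelProjLib.ProjProper
import Groth.Agent.MiscFlat6.AmpleGen
import Groth.Agent.ProjSecLib.Gamma
import Groth.Agent.CubeConsLib.PicSep
import Groth.Agent.AVAmpleLib.Exist

/-!
Families over arbitrary affine bases descend to bases of finite type.
-/

set_option autoImplicit false
set_option maxHeartbeats 1000000
set_option maxRecDepth 8000
set_option backward.isDefEq.respectTransparency false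
set_option linter.style.haveILetI false
set_option linter.unusedSectionVars false

noncomputable section

universe u

open CategoryTheory CategoryTheory.Limits MonoidalCategory CartesianMonoidalCategory MonObj AlgebraicGeometry
open TopologicalSpace Opposite
open CubeConsLib AVVanishLib AVAmpleLib AVIndexLib

namespace AVDualLib

variable {k : Type u} [Field k] {A : Over (Spec (CommRingCat.of k))} [GrpObj A] [IsProper A.hom]
  [GeometricallyIntegral A.hom]

/-- The twisting sheaf of projective space is invertible. -/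
theorem isInvertible_twist_one (m : ℕ) (R : Type u) [CommRing R] :
    PicF.IsInvertible (Twist.twist (CohB1.polyGrading m R) ((1 : ℕ) : ℤ)) :=
  TwistLib.twist_isInvertible _ (eq_top_iff.mpr fun x _ => by
    obtain ⟨i, hi⟩ := ProjSecLib.cover (R := R) (n := m) x
    exact TopologicalSpace.Opens.mem_iSup.mpr ⟨⟨MvPolynomial.X i, ProjSecLib.X_mem i⟩, hi⟩) _

/-- A difference of pulled back classes is a class. -/
theorem exists_sub_pull {X P Q : Scheme.{u}} (g : X ⟶ P) {O : P.Modules} (hO : PicF.IsInvertible O) (f : X ⟶ Q)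
    {N : Q.Modules} (hN : PicF.IsInvertible N) :
    ∃ (D : X.Modules) (hD : PicF.IsInvertible D), clA hD = pullA g (clA hO) - pullA f (clA hN) := by
  obtain ⟨D, hD, e⟩ := exists_sub (AmpleDevLib.isInvertible_pb g hO) (AmpleDevLib.isInvertible_pb f hN)
  exact ⟨D, hD, e.trans (by rw [pullA_clA, pullA_clA])⟩

/-- An invertible module on a fibre product with an affine scheme descends to a stage of finite type. -/
theorem exists_descent {R : Type u} [CommRing R] (φ : k →+* R)
    {Fc : (PicF.XT A.hom (Over.mk (Spec.map (CommRingCat.ofHom φ)))).Modules} (hc : PicF.IsInvertible Fc) :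
    ∃ (T₀ : Over (Spec (CommRingCat.of k))) (p : Over.mk (Spec.map (CommRingCat.ofHom φ)) ⟶ T₀)
      (F₀ : (PicF.XT A.hom T₀).Modules) (h₀ : PicF.IsInvertible F₀), LocallyOfFiniteType T₀.hom ∧
      DenseRange p.left ∧
      (clA hc : PicA (A ⊗ Over.mk (Spec.map (CommRingCat.ofHom φ))).left) =
        pullA (A ◁ p).left (clA h₀ : PicA (A ⊗ T₀).left) := by
  classical
  letI := φ.toAlgebra
  let T : Over (Spec (CommRingCat.of k)) := Over.mk (Spec.map (CommRingCat.ofHom φ))
  -- sections defining a map to projective space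
  obtain ⟨H, hH⟩ := AVAmpleLib.exists_ample A
  haveI : IsAffineHom T.hom := inferInstanceAs (IsAffineHom (Spec.map (CommRingCat.ofHom φ)))
  let q : PicF.XT A.hom T ⟶ A.left := Limits.pullback.fst A.hom T.hom
  haveI : IsAffineHom q := MorphismProperty.pullback_fst (P := @IsAffineHom) A.hom T.hom inferInstance
  obtain ⟨n, hn⟩ := MiscFlat6.exists_gen_twist (AmpleDevLib.isAmple_pb q hH.1 hH) hc
  have hq := AmpleDevLib.isInvertible_pb q hH.1
  have hqn := AmpleThLib.tensorPow_isInvertible hq n
  let M := CohB1.tensorMod (CohB1.tensorPow (KFlatLib.pb q H) n) Fc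
  have hM : PicF.IsInvertible M := HilbPolyLib.isInvertible_tensor hqn hc
  haveI : CompactSpace ↥(PicF.XT A.hom T) := by
    haveI : CompactSpace A.left := QuasiCompact.compactSpace_of_compactSpace A.hom
    exact QuasiCompact.compactSpace_of_compactSpace q
  choose σ hσ using hn n le_rfl
  obtain ⟨s, hs⟩ := isCompact_univ.elim_finite_subcover
    (fun x : ↥(PicF.XT A.hom T) => (TwistLib.genSet hM (σ x) : Set ↥(PicF.XT A.hom T)))
    (fun x => (TwistLib.genSet hM (σ x)).2) fun x _ => Set.mem_iUnion.2 ⟨x, hσ x⟩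
  let e := s.equivFin
  let v : Fin (s.card + 1) → Γ(M, ⊤) := Fin.cases 0 fun i => σ (e.symm i).1
  obtain ⟨r, hrb, -, -, ⟨tr⟩⟩ := GenusZeroLib.exists_toPA_iso (R := k) (PicF.XTproj A.hom T ≫ T.hom) hM v fun y => by
    obtain ⟨x, hx, hy⟩ := Set.mem_iUnion₂.1 (hs (Set.mem_univ y))
    exact ⟨(e ⟨x, hx⟩).succ, by simpa [v] using hy⟩
  let 𝒮 := CohB1.polyGrading s.card k
  let b := AmpleThLib.baseA 𝒮
  haveI : IsProper b := RelProjLib.isProper_polyToSpec (s.card + 1) k
  haveI : IsLocallyNoetherian (Spec (CommRingCat.of k)) := inferInstance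
  haveI : LocallyOfFinitePresentation b := LocallyOfFinitePresentation.iff_locallyOfFiniteType.2 inferInstance
  -- the system of finite type stages
  let Sy := ConsLib.fgSys k R (Iso.refl (Spec (CommRingCat.of k)))
  let B := RichLib.LimBC.pb Sy A.hom
  haveI : CompactSpace A.left := QuasiCompact.compactSpace_of_compactSpace A.hom
  haveI : QuasiSeparatedSpace A.left := quasiSeparatedSpace_of_quasiSeparated A.hom
  haveI : ∀ {i j} (a : i ⟶ j), IsAffineHom (B.D.map a) := fun a => B.affine_map a
  haveI := B.compactSpace_obj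
  haveI := B.quasiSeparatedSpace_obj
  let tt : B.D ⟶ (Functor.const _).obj (Spec (CommRingCat.of k)) :=
    { app := fun i => B.t i ≫ A.hom
      naturality := fun i j a => by
        show B.D.map a ≫ B.t j ≫ A.hom = (B.t i ≫ A.hom) ≫ 𝟙 _
        rw [B.w_assoc, Category.comp_id] }
  have hsT : Sy.s = T.hom := Category.comp_id _
  let j : pullback A.hom Sy.s ⟶ PicF.XT A.hom T :=
    Limits.pullback.lift (Limits.pullback.fst _ _) (Limits.pullback.snd _ _)
      (Limits.pullback.condition.trans (congrArg (Limits.pullback.snd A.hom Sy.s ≫ ·) hsT))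
  let j' : PicF.XT A.hom T ⟶ pullback A.hom Sy.s :=
    Limits.pullback.lift (Limits.pullback.fst _ _) (Limits.pullback.snd _ _)
      (Limits.pullback.condition.trans (congrArg (Limits.pullback.snd A.hom T.hom ≫ ·) hsT.symm))
  obtain ⟨i, g, hg, hgb⟩ := Scheme.exists_π_app_comp_eq_of_locallyOfFinitePresentation B.D tt b B.c B.hc (j ≫ r) (by
    ext i
    show RichLib.LimBC.pbπ Sy A.hom i ≫ Limits.pullback.fst A.hom (Sy.t i) ≫ A.hom = (j ≫ r) ≫ b
    rw [RichLib.LimBC.pbπ_fst_assoc, Category.assoc, hrb]
    refine Eq.trans ?_ (Category.assoc _ _ _)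
    rw [show j ≫ PicF.XTproj A.hom T = _ from Limits.pullback.lift_snd _ _ _, ← hsT]
    exact Limits.pullback.condition)
  let T₀ : Over (Spec (CommRingCat.of k)) := Over.mk (Sy.t i)
  let p : T ⟶ T₀ := Over.homMk (Sy.c.π.app i) ((Sy.hs i).trans hsT)
  have hp : (A ◁ p).left = j' ≫ RichLib.LimBC.pbπ Sy A.hom i := by
    apply Limits.pullback.hom_ext
    · refine (congrArg Over.Hom.left (whiskerLeft_fst A p)).trans ?_
      exact ((Category.assoc _ _ _).trans ((congrArg (j' ≫ ·) (RichLib.LimBC.pbπ_fst Sy A.hom i)).trans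
        (Limits.pullback.lift_fst _ _ _))).symm
    · refine (congrArg Over.Hom.left (whiskerLeft_snd A p)).trans ?_
      exact ((Category.assoc _ _ _).trans ((congrArg (j' ≫ ·) (RichLib.LimBC.pbπ_snd Sy A.hom i)).trans
        ((Category.assoc _ _ _).symm.trans
          (congrArg (· ≫ Sy.c.π.app i) (Limits.pullback.lift_snd _ _ _))))).symm
  have hr : r = (A ◁ p).left ≫ g := by
    rw [hp, Category.assoc]
    refine Eq.trans ?_ (congrArg (j' ≫ ·) hg.symm)
    refine Eq.trans ?_ (Category.assoc _ _ _)
    rw [show j' ≫ j = 𝟙 _ from Limits.pullback.hom_ext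
      (by rw [Category.assoc, Category.id_comp]; simp [j, j'])
      (by rw [Category.assoc, Category.id_comp]; simp [j, j']), Category.id_comp]
  have hO := isInvertible_twist_one s.card k
  have hHn := AmpleThLib.tensorPow_isInvertible hH.1 n
  obtain ⟨F₀, h₀, e₀⟩ := exists_sub_pull (X := (A ⊗ T₀).left) g hO (fst A T₀).left hHn
  refine ⟨T₀, p, F₀, h₀, ConsLib.locallyOfFiniteType_fgSys_t k R _ i, ?_, ?_⟩
  · exact (PrimeSpectrum.denseRange_comap_iff_ker_le_nilRadical _).2
      (le_of_eq_of_le ((RingHom.injective_iff_ker_eq_bot _).1 Subtype.val_injective) bot_le)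
  · obtain ⟨eP, -⟩ := AmpleDevLib.exists_pullPowIso q hH.1 n
    have e1 : clA hqn = pullA q (clA hHn) := by
      rw [pullA_clA, clA_eq_iff]
      exact ⟨eP.symm⟩
    have e2 : clA hM = pullA r (clA hO) := by
      rw [pullA_clA, clA_eq_iff]
      exact ⟨tr.symm⟩
    have e3 : (clA hc : PicA (A ⊗ T).left) = pullA r (clA hO) - pullA q (clA hHn) := by
      rw [← e2, ← e1]
      exact eq_sub_of_add_eq' (clA_tensor hqn hc).symm
    have e4 : pullA (A ◁ p).left (clA h₀ : PicA (A ⊗ T₀).left) = pullA r (clA hO) - pullA q (clA hHn) := by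
      refine (congrArg (pullA (A ◁ p).left) e₀).trans ?_
      rw [map_sub, pullA_comp, pullA_comp, hr, ← Over.comp_left, whiskerLeft_fst]
      rfl
    exact e3.trans e4.symm

variable {L : A.left.Modules} {hL : PicF.IsInvertible L}

/-- Over any affine base every additive family comes from a point. -/
theorem exists_section_affine [IsAlgClosed k] (hp : Principal hL) {R : Type u} [CommRing R] (φ : k →+* R)
    {Fc : (PicF.XT A.hom (Over.mk (Spec.map (CommRingCat.ofHom φ)))).Modules} (hc : PicF.IsInvertible Fc)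
    (hc0 : AddFam (clA hc : PicA (A ⊗ Over.mk (Spec.map (CommRingCat.ofHom φ))).left)) :
    ∃ v : Over.mk (Spec.map (CommRingCat.ofHom φ)) ⟶ A ⊗ Over.mk (Spec.map (CommRingCat.ofHom φ)),
      v ≫ snd A _ = 𝟙 _ ∧ Represents hL (clA hc) v := by
  haveI : IsCommMonObj A := isCommMonObj_field
  haveI : LocallyOfFinitePresentation A.hom := LocallyOfFinitePresentation.iff_locallyOfFiniteType.2 inferInstance
  obtain ⟨T₀, p, F₀, h₀, hlft, hd, e⟩ := exists_descent φ hc
  haveI := hlft
  let T : Over (Spec (CommRingCat.of k)) := Over.mk (Spec.map (CommRingCat.ofHom φ))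
  have hdef : defect A T hc = 0 := defect_of_addFam hc hc0
  have e' : pullA (PicF.XTmap A.hom p) (clA h₀) = clA hc := by
    rw [← AVThetaLib.XTmap_eq]
    exact e.symm
  have hAA : IsProper (A ⊗ A).hom := by dsimp; infer_instance
  haveI : GeometricallyIntegral (A ⊗ A).hom := geometricallyIntegral_prod A.hom A.hom
  haveI : Flat (A ⊗ A).hom := inferInstance
  haveI : LocallyOfFinitePresentation (A ⊗ A).hom :=
    LocallyOfFinitePresentation.iff_locallyOfFiniteType.2 inferInstance
  let Q := PicF.XTproj (A ⊗ A).hom T₀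
  haveI : IsProper Q := MorphismProperty.pullback_snd (P := @IsProper) _ _ hAA
  haveI : Flat Q := MorphismProperty.pullback_snd (P := @Flat) _ _ ‹_›
  haveI : LocallyOfFinitePresentation Q := MorphismProperty.pullback_snd (P := @LocallyOfFinitePresentation) _ _ ‹_›
  haveI : GeometricallyIntegral Q := inferInstanceAs (GeometricallyIntegral (Limits.pullback.snd (A ⊗ A).hom T₀.hom))
  obtain ⟨D, hD, eD⟩ := CubeConsLib.exists_rep A T₀ h₀
  have hcl := isClosed_trivial_fibre Q hD
  have hzero : defect A T₀ h₀ = 0 := by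
    refine defect_eq_zero_of_fibres A T₀ h₀ fun z => ?_
    have hall : ∀ z, Nonempty (CohIII.fiberMod Q D z ≅ Coh.structureModule (Q.fiber z)) := by
      intro z
      have hsub : Set.range p.left ⊆ {z | Nonempty (CohIII.fiberMod Q D z ≅ Coh.structureModule (Q.fiber z))} := by
        rintro _ ⟨t, rfl⟩
        let σ : Spec (T.left.residueField t) ⟶ T₀.left := T.left.fromSpecResidueField t ≫ p.left
        have h1 := defect_fibre_of_geometric A T₀ h₀ (p.left t) (Ω := T.left.residueField t) σ (by
          show (T.left.fromSpecResidueField t ≫ p.left) _ = _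
          rw [Scheme.Hom.comp_apply, Scheme.fromSpecResidueField_apply]) (by
          let w : Over.mk (σ ≫ T₀.hom) ⟶ T := Over.homMk (T.left.fromSpecResidueField t)
            (show T.left.fromSpecResidueField t ≫ T.hom = σ ≫ T₀.hom by rw [Category.assoc, Over.w p])
          have hw : (Over.homMk σ rfl : Over.mk (σ ≫ T₀.hom) ⟶ T₀) = w ≫ p := Over.OverMorphism.ext rfl
          have hmap : PicF.XTmap (A ⊗ A).hom (w ≫ p) =
              PicF.XTmap (A ⊗ A).hom w ≫ PicF.XTmap (A ⊗ A).hom p := by
            rw [← AVThetaLib.XTmap_eq, ← AVThetaLib.XTmap_eq, ← AVThetaLib.XTmap_eq, whiskerLeft_comp,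
              Over.comp_left]
          rw [hw, hmap, ← pullA_comp, defect_natural A p h₀ hc e', hdef, map_zero])
        rw [← eD, pullA_clA _ hD, ← clA_one, clA_eq_iff] at h1
        exact h1
      have : closure (Set.range p.left) ⊆ _ := closure_minimal hsub hcl
      exact this (hd z)
    rw [← eD, pullA_clA _ hD, ← clA_one, clA_eq_iff]
    exact hall z
  obtain ⟨v, hv, M, hM, eM⟩ := exists_section hp h₀ (addFam_of_defect h₀ hzero)
  refine ⟨lift (p ≫ v ≫ fst A T₀) (𝟙 T), lift_snd _ _, _, AmpleDevLib.isInvertible_pb p.left hM, ?_⟩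
  have := congrArg (pullA (A ◁ p).left) eM
  rw [hv, whiskerLeft_id, Over.id_left, pullA_id, map_add, pullA_Lam, pullA_comp, ← Over.comp_left, whiskerLeft_snd,
    Over.comp_left, ← pullA_comp] at this
  rw [lift_snd, lift_fst, whiskerLeft_id, Over.id_left, pullA_id, e, this, pullA_clA p.left hM]

end AVDualLib
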