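import Groth.Agent.AVDualLib.Fam
import Groth.Agent.S19476
import Groth.Agent.AVVanishLib.PhiSurj
import Groth.Agent.AVAmpleLib.KLPoints

/-!
The scheme of points representing a family.
-/

set_option autoImplicit false
set_option maxHeartbeats 1000000
set_option maxRecDepth 8000
set_option backward.isDefEq.respectTransparency false
set_option linter.style.haveILetI false
set_option linter.unusedSectionVars false

noncomputable section

universe u

open CategoryTheory CategoryTheory.Limits MonoidalCategory CartesianMonoidalCategory MonObj AlgebraicGeometry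
open CubeConsLib AVVanishLib AVAmpleLib AVIndexLib

namespace AVDualLib

variable {k : Type u} [Field k] {A : Over (Spec (CommRingCat.of k))} [GrpObj A] [IsProper A.hom]
  [GeometricallyIntegral A.hom]

/-- The pullback of a class is pulled back from the parameter space. -/
theorem triv_iff {S V : Over (Spec (CommRingCat.of k))} {F : (PicF.XT A.hom S).Modules} (hF : PicF.IsInvertible F)
    (v : V ⟶ S) :
    (∃ M : V.left.Modules, FlatMod.IsFinLocFreeOfRank 1 M ∧
        Nonempty ((Scheme.Modules.pullback (Limits.pullback.fst (PicF.XTproj A.hom S) v.left)).obj F ≅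
          (Scheme.Modules.pullback (Limits.pullback.snd (PicF.XTproj A.hom S) v.left)).obj M)) ↔
      ∃ (M : V.left.Modules) (hM : PicF.IsInvertible M),
        pullA (A ◁ v).left (clA hF : PicA (A ⊗ S).left) = pullA (snd A V).left (clA hM) := by
  let q := PicF.XTproj A.hom S
  let j : (A ⊗ V).left ⟶ Limits.pullback q v.left :=
    Limits.pullback.lift (A ◁ v).left (snd A V).left (congrArg Over.Hom.left (whiskerLeft_snd A v))
  let j' : Limits.pullback q v.left ⟶ (A ⊗ V).left :=
    Limits.pullback.lift (Limits.pullback.fst q v.left ≫ Limits.pullback.fst A.hom S.hom)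
      (Limits.pullback.snd q v.left) (by
        rw [Category.assoc, Limits.pullback.condition, Limits.pullback.condition_assoc, Over.w v])
  have h1 : j ≫ Limits.pullback.fst q v.left = (A ◁ v).left := Limits.pullback.lift_fst _ _ _
  have h2 : j ≫ Limits.pullback.snd q v.left = (snd A V).left := Limits.pullback.lift_snd _ _ _
  have h3 : j' ≫ (snd A V).left = Limits.pullback.snd q v.left := Limits.pullback.lift_snd _ _ _
  have h4 : j' ≫ (A ◁ v).left = Limits.pullback.fst q v.left := by
    apply Limits.pullback.hom_ext (f := A.hom) (g := S.hom)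
    · rw [Category.assoc]
      show j' ≫ (A ◁ v).left ≫ (fst A S).left = _
      rw [← Over.comp_left, whiskerLeft_fst]
      exact Limits.pullback.lift_fst _ _ _
    · rw [Category.assoc]
      show j' ≫ (A ◁ v).left ≫ (snd A S).left = _
      rw [← Over.comp_left, whiskerLeft_snd, Over.comp_left, ← Category.assoc, h3]
      exact Limits.pullback.condition.symm
  constructor
  · rintro ⟨M, hM1, ⟨e⟩⟩
    have hM : PicF.IsInvertible M := (CohCmpLib.invertible_iff_rank_one M).2 hM1
    have e' : pullA (Limits.pullback.fst q v.left) (clA hF) = pullA (Limits.pullback.snd q v.left) (clA hM) := by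
      rw [pullA_clA, pullA_clA, clA_eq_iff]
      exact ⟨e⟩
    have := congrArg (pullA j) e'
    rw [pullA_comp, pullA_comp, h1, h2] at this
    exact ⟨M, hM, this⟩
  · rintro ⟨M, hM, e⟩
    refine ⟨M, (CohCmpLib.invertible_iff_rank_one M).1 hM, ?_⟩
    have := congrArg (pullA j') e
    rw [pullA_comp, pullA_comp, h3, h4] at this
    rw [← clA_eq_iff (AmpleDevLib.isInvertible_pb _ hF) (AmpleDevLib.isInvertible_pb _ hM), ← pullA_clA _ hF,
      ← pullA_clA _ hM]
    exact this

variable {L : A.left.Modules} (hL : PicF.IsInvertible L) {T : Over (Spec (CommRingCat.of k))}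

/-- The point `v = (y, t)` has `y` representing the restriction of the family to `t`. -/
def Represents {V : Over (Spec (CommRingCat.of k))} (c : PicA (A ⊗ T).left) (v : V ⟶ A ⊗ T) : Prop :=
  ∃ (M : V.left.Modules) (hM : PicF.IsInvertible M),
    pullA (A ◁ (v ≫ snd A T)).left c = Lam hL (v ≫ fst A T) + pullA (snd A V).left (clA hM)

variable {hL}

theorem Represents.comp {V W : Over (Spec (CommRingCat.of k))} {c : PicA (A ⊗ T).left} {v : V ⟶ A ⊗ T}
    (h : Represents hL c v) (w : W ⟶ V) : Represents hL c (w ≫ v) := by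
  obtain ⟨M, hM, e⟩ := h
  refine ⟨_, AmpleDevLib.isInvertible_pb w.left hM, ?_⟩
  have := congrArg (pullA (A ◁ w).left) e
  rw [map_add, pullA_Lam, pullA_comp, pullA_comp, ← Over.comp_left, ← whiskerLeft_comp, ← Over.comp_left,
    whiskerLeft_snd] at this
  rw [Category.assoc, Category.assoc, this, Over.comp_left, ← pullA_comp, pullA_clA w.left hM]

theorem Represents.unique [IsCommMonObj A] (hp : Principal hL) {V : Over (Spec (CommRingCat.of k))}
    {c : PicA (A ⊗ T).left} {v v' : V ⟶ A ⊗ T} (h : Represents hL c v) (h' : Represents hL c v')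
    (e : v ≫ snd A T = v' ≫ snd A T) : v = v' := by
  obtain ⟨M, hM, e₁⟩ := h
  obtain ⟨M', hM', e₂⟩ := h'
  refine CartesianMonoidalCategory.hom_ext _ _ (hp.eq_of_Lam (N := clA hM' - clA hM) ?_) e
  rw [e, e₂] at e₁
  rw [map_sub, eq_sub_of_add_eq e₁.symm]
  abel

/-- The difference family on `A ⊗ T`. -/
theorem exists_diff [IsCommMonObj A] {Fc : (PicF.XT A.hom T).Modules} (hc : PicF.IsInvertible Fc)
    (hc0 : AddFam (clA hc : PicA (A ⊗ T).left)) :
    ∃ (F F₁ F₂ : (PicF.XT A.hom (A ⊗ T)).Modules) (hF : PicF.IsInvertible F) (h₁ : PicF.IsInvertible F₁)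
      (h₂ : PicF.IsInvertible F₂), AddFam (clA h₁ : PicA (A ⊗ (A ⊗ T)).left) ∧
      AddFam (clA h₂ : PicA (A ⊗ (A ⊗ T)).left) ∧ clA hF = clA h₁ + clA h₂ ∧
      (clA h₁ : PicA (A ⊗ (A ⊗ T)).left) = pullA (A ◁ snd A T).left (clA hc : PicA (A ⊗ T).left) ∧
      (clA h₂ : PicA (A ⊗ (A ⊗ T)).left) = Lam hL (fst A T)⁻¹ := by
  obtain ⟨F₂, h₂, e₂, -⟩ := exists_rep (hL := hL) (fst A T)⁻¹
  have h₁ := AmpleDevLib.isInvertible_pb (PicF.XTmap A.hom (snd A T)) hc
  have e₁ : (clA h₁ : PicA (A ⊗ (A ⊗ T)).left) = pullA (A ◁ snd A T).left (clA hc : PicA (A ⊗ T).left) := by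
    rw [← pullA_clA _ hc, ← AVThetaLib.XTmap_eq]
    rfl
  exact ⟨_, _, F₂, HilbPolyLib.isInvertible_tensor h₁ h₂, h₁, h₂, e₁ ▸ hc0.pull _, e₂ ▸ addFam_Lam _,
    clA_tensor h₁ h₂, e₁, e₂⟩

theorem represents_iff [IsCommMonObj A] {c : PicA (A ⊗ T).left} {F : (PicF.XT A.hom (A ⊗ T)).Modules}
    (hF : PicF.IsInvertible F)
    (e : (clA hF : PicA (A ⊗ (A ⊗ T)).left) = pullA (A ◁ snd A T).left c + Lam hL (fst A T)⁻¹)
    {V : Over (Spec (CommRingCat.of k))} (v : V ⟶ A ⊗ T) :
    Represents hL c v ↔ ∃ (M : V.left.Modules) (hM : PicF.IsInvertible M),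
      pullA (A ◁ v).left (clA hF : PicA (A ⊗ (A ⊗ T)).left) = pullA (snd A V).left (clA hM) := by
  have hh : pullA (A ◁ v).left (clA hF : PicA (A ⊗ (A ⊗ T)).left) =
      pullA (A ◁ (v ≫ snd A T)).left c - Lam hL (v ≫ fst A T) := by
    rw [e, map_add, pullA_Lam, GrpObj.comp_inv, Lam_inv, pullA_comp, ← Over.comp_left, ← whiskerLeft_comp,
      sub_eq_add_neg]
  refine exists_congr fun M => exists_congr fun hM => ?_
  rw [hh, sub_eq_iff_eq_add']

/-- The scheme of points representing a family: closed in `A ⊗ T` and embedded in `T`. -/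
theorem exists_locus [IsCommMonObj A] (hp : Principal hL) [LocallyOfFiniteType T.hom]
    {Fc : (PicF.XT A.hom T).Modules} (hc : PicF.IsInvertible Fc) (hc0 : AddFam (clA hc : PicA (A ⊗ T).left)) :
    ∃ (Z : Over (Spec (CommRingCat.of k))) (i : Z ⟶ A ⊗ T), IsClosedImmersion i.left ∧ Mono (i ≫ snd A T) ∧
      Represents hL (clA hc) i ∧ ∀ (V : Over (Spec (CommRingCat.of k))), IsLocallyNoetherian V.left →
        ∀ v : V ⟶ A ⊗ T, Represents hL (clA hc) v → ∃ w, w ≫ i = v := by
  obtain ⟨F, F₁, F₂, hF, h₁, h₂, -, -, hs, e₁, e₂⟩ := exists_diff (hL := hL) hc hc0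
  have e : (clA hF : PicA (A ⊗ (A ⊗ T)).left) =
      pullA (A ◁ snd A T).left (clA hc : PicA (A ⊗ T).left) + Lam hL (fst A T)⁻¹ := by rw [← e₁, ← e₂]; exact hs
  haveI : LocallyOfFiniteType (A ⊗ T).hom :=
    inferInstanceAs (LocallyOfFiniteType (Limits.pullback.fst A.hom T.hom ≫ A.hom))
  haveI : IsLocallyNoetherian (A ⊗ T).left := LocallyOfFiniteType.isLocallyNoetherian (A ⊗ T).hom
  haveI : LocallyOfFinitePresentation A.hom := LocallyOfFinitePresentation.iff_locallyOfFiniteType.2 inferInstance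
  let q := PicF.XTproj A.hom (A ⊗ T)
  haveI : IsProper q := MorphismProperty.pullback_snd (P := @IsProper) A.hom (A ⊗ T).hom ‹IsProper A.hom›
  haveI : Flat q := MorphismProperty.pullback_snd (P := @Flat) A.hom (A ⊗ T).hom inferInstance
  haveI : GeometricallyIntegral q := inferInstanceAs (GeometricallyIntegral (Limits.pullback.snd A.hom (A ⊗ T).hom))
  obtain ⟨Z, ji, hji, hZ⟩ := Groth.Agent.S19476.result q F ((CohCmpLib.invertible_iff_rank_one F).1 hF)
  let Z' : Over (Spec (CommRingCat.of k)) := Over.mk (ji ≫ (A ⊗ T).hom)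
  let i : Z' ⟶ A ⊗ T := Over.homMk ji rfl
  have hi : IsClosedImmersion i.left := hji
  haveI : IsLocallyNoetherian Z'.left := LocallyOfFiniteType.isLocallyNoetherian ji
  have huniv : Represents hL (clA hc) i :=
    (represents_iff hF e i).2 ((triv_iff hF i).1 ((hZ Z ji ‹_›).1 ⟨𝟙 Z, Category.id_comp _⟩))
  refine ⟨Z', i, hi, ⟨fun w w' hw => ?_⟩, huniv, fun V hV v hv => ?_⟩
  · haveI : Mono i := Over.mono_of_mono_left i
    rw [← cancel_mono i]
    exact (huniv.comp w).unique hp (huniv.comp w') (by rw [Category.assoc, Category.assoc]; exact hw)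
  · obtain ⟨u', hu'⟩ := (hZ V.left v.left hV).2 ((triv_iff hF v).2 ((represents_iff hF e v).1 hv))
    exact ⟨Over.homMk u' (show u' ≫ ji ≫ (A ⊗ T).hom = V.hom by rw [← Category.assoc, hu']; exact Over.w v),
      Over.OverMorphism.ext hu'⟩

end AVDualLib
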