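import Groth.Agent.AVDualLib.Limit
import Groth.Agent.AVIndexLib.SwapFam

/-!
The dual of a variety with a principal class is the variety itself.
-/

set_option autoImplicit false
set_option maxHeartbeats 1000000
set_option maxRecDepth 8000
set_option backward.isDefEq.respectTransparency false
set_option linter.style.haveILetI false
set_option linter.unusedSectionVars false

noncomputable section

universe u

open CategoryTheory CategoryTheory.Limits MonoidalCategory CartesianMonoidalCategory MonObj AlgebraicGeometry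
open CubeConsLib AVVanishLib AVAmpleLib AVIndexLib

namespace AVDualLib

variable {k : Type u} [Field k] [IsAlgClosed k] {A At : Over (Spec (CommRingCat.of k))} [GrpObj A] [IsProper A.hom]
  [GeometricallyIntegral A.hom] [GrpObj At] {φ : AgPol.DualMap A At}
  (hA : AbDual.IsDualAV Scheme.fppfPrecoverage A At φ) {L : A.left.Modules} {hL : PicF.IsInvertible L}
  (hp : Principal hL) {lam : A ⟶ At}

include hA hp in
/-- The map attached to a principal class is an isomorphism onto any dual. -/
theorem isIso_lambda_of_principal (hlam : AgPol.IsLambda A At φ L lam) : IsIso lam.left := by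
  haveI : IsCommMonObj A := isCommMonObj_field
  obtain ⟨N, hN, cN, rfl⟩ := exists_of_isLambda hL hlam
  have hN0 := isPicZeroCl_mumford hL cN
  let l := φ A (PicF.cl N)
  have cy : ∀ {T : Over (Spec (CommRingCat.of k))} (y : T ⟶ A),
      (pullA (PicF.XTmap A.hom y) (clA hN) : PicA (A ⊗ T).left) = Lam hL y := fun {T} y => by
    rw [← AVThetaLib.XTmap_eq]
    show pullA (A ◁ y).left (clA hN : PicA (A ⊗ A).left) = _
    rw [cN, pullA_lam, whiskerLeft_fst, whiskerLeft_snd]
    rfl
  haveI : Mono l := ⟨fun {T} x y hxy => by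
    obtain ⟨R, hR, hloc⟩ := hA.relPic.locallyInjective T _ _ (isPicZeroCl_XTmap x hN0) (isPicZeroCl_XTmap y hN0)
      (by rw [hA.relPic.natural A T x _ hN0, hA.relPic.natural A T y _ hN0]; exact hxy)
    refine hom_ext_fppf hR fun U u hu => hp.eq_of_Lam (N := 0) ?_
    have hx := AmpleDevLib.isInvertible_pb (PicF.XTmap A.hom (AbDual.ovrHom T u))
      (AmpleDevLib.isInvertible_pb (PicF.XTmap A.hom x) hN)
    have hy := AmpleDevLib.isInvertible_pb (PicF.XTmap A.hom (AbDual.ovrHom T u))
      (AmpleDevLib.isInvertible_pb (PicF.XTmap A.hom y) hN)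
    have e : clA hx = clA hy := (clA_eq_iff hx hy).2 (cl_eq_iff.1 (congrArg toI (hloc u hu)))
    rw [← pullA_clA _ (AmpleDevLib.isInvertible_pb (PicF.XTmap A.hom x) hN), ← pullA_clA _ hN,
      ← pullA_clA _ (AmpleDevLib.isInvertible_pb (PicF.XTmap A.hom y) hN), ← pullA_clA _ hN] at e
    have e' : pullA (A ◁ AbDual.ovrHom T u).left (Lam hL x) = pullA (A ◁ AbDual.ovrHom T u).left (Lam hL y) := by
      rw [← cy, ← cy, AVThetaLib.XTmap_eq]
      exact e
    rw [pullA_Lam, pullA_Lam] at e'
    rw [map_zero, add_zero]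
    exact e'⟩
  haveI : Mono l.left := inferInstance
  obtain ⟨R, hR, hRc⟩ := hA.relPic.locallySurjective At (𝟙 At)
  obtain ⟨y, hy⟩ := exists_factor_fppf l (𝟙 At) hR fun U u hu => by
    obtain ⟨c, hc, hcφ⟩ := hRc u hu
    let V := AbDual.ovr At u
    have key : ∀ (S : CommRingCat.{u}) (f : Spec S ⟶ U), ∃ w : Spec S ⟶ A.left, w ≫ l.left = f ≫ u := by
      intro S f
      let ψ : CommRingCat.of k ⟶ S := Spec.preimage (f ≫ u ≫ At.hom)
      let T : Over (Spec (CommRingCat.of k)) := Over.mk (Spec.map (CommRingCat.ofHom ψ.hom))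
      have hψ : Spec.map (CommRingCat.ofHom ψ.hom) = f ≫ u ≫ At.hom := Spec.map_preimage _
      let g : T ⟶ V := Over.homMk f hψ.symm
      obtain ⟨Fc, hFc, hFi, hFa⟩ := isPicZeroCl_XTmap g hc
      have hF0 : AbDual.IsPicZeroCl A.hom T (PicF.cl Fc) := ⟨Fc, rfl, hFi, hFa⟩
      obtain ⟨v, hv, M, hM, e⟩ := exists_section_affine hp ψ.hom hFi (addFam_of_isPicZeroCl hFi hF0)
      rw [hv, whiskerLeft_id, Over.id_left, pullA_id] at e
      let y := v ≫ fst A T
      have hNy := AmpleDevLib.isInvertible_pb (PicF.XTmap A.hom y) hN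
      have h1 := phi_add_base hA hNy hFi (isPicZeroCl_XTmap y hN0) hM (by
        rw [← pullA_clA _ hN]
        exact e.trans (congrArg (· + _) (cy y).symm))
      refine ⟨y.left, ?_⟩
      have h2 : φ T (PicF.pullCl (PicF.XTmap A.hom g) c) = y ≫ l := by
        rw [← hFc, h1]
        exact hA.relPic.natural A T y _ hN0
      rw [hA.relPic.natural V T g c hc, hcφ] at h2
      have h3 := congrArg Over.Hom.left h2
      simp only [Over.comp_left, Over.id_left, Category.comp_id] at h3
      exact h3.symm
    choose w hw using fun i : U.affineCover.I₀ => key _ (U.affineCover.f i)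
    refine ⟨U.affineCover.glueMorphisms w fun i j => ?_, ?_⟩
    · rw [← cancel_mono l.left, Category.assoc, Category.assoc, hw, hw, Limits.pullback.condition_assoc]
    · refine U.affineCover.hom_ext _ _ fun i => ?_
      rw [Scheme.Cover.ι_glueMorphisms_assoc, hw]
      simp
  refine ⟨y.left, ?_, congrArg Over.Hom.left hy⟩
  rw [← cancel_mono l.left, Category.assoc, Category.id_comp, show y.left ≫ l.left = 𝟙 _ from congrArg Over.Hom.left hy]
  exact Category.comp_id _

end AVDualLib
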