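import Groth.Agent.AVDualLib.Artin
import Mathlib.RingTheory.Jacobson.Artinian

/-!
Families over bases of finite type come from points.
-/

set_option autoImplicit false
set_option maxHeartbeats 1000000
set_option maxRecDepth 8000
set_option backward.isDefEq.respectTransparency false
set_option linter.style.haveILetI false
set_option linter.unusedSectionVars false

noncomputable section

universe u

open CategoryTheory CategoryTheory.Limits MonoidalCategory CartesianMonoidalCategory MonObj AlgebraicGeometry
open TopologicalSpace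
open CubeConsLib AVVanishLib AVAmpleLib AVIndexLib

namespace AVDualLib

variable {k : Type u} [Field k] [IsAlgClosed k]

/-- A closed immersion through which every Artinian point over the field factors is an isomorphism. -/
theorem isIso_of_artinian_points {Z T : Over (Spec (CommRingCat.of k))} [LocallyOfFiniteType T.hom]
    (π : Z ⟶ T) [IsClosedImmersion π.left]
    (h : ∀ (U : Over (Spec (CommRingCat.of k))), IsFinite U.hom → Subsingleton U.left →
      ∀ u : U ⟶ T, ∃ w : U ⟶ Z, w ≫ π = u) : IsIso π.left := by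
  haveI : IsLocallyNoetherian T.left := LocallyOfFiniteType.isLocallyNoetherian T.hom
  rw [IsClosedImmersion.isIso_iff_ker_eq_bot, eq_bot_iff]
  refine Scheme.IdealSheafData.le_def.2 fun U a ha => ?_
  rw [Scheme.Hom.ker_apply, RingHom.mem_ker] at ha
  rw [Scheme.IdealSheafData.ideal_bot]
  refine Ideal.mem_bot.2 ?_
  let φ : CommRingCat.of k ⟶ Γ(T.left, U.1) := (Scheme.ΓSpecIso (CommRingCat.of k)).inv ≫ T.hom.appLE ⊤ U.1 le_top
  letI : Algebra k Γ(T.left, U.1) := φ.hom.toAlgebra
  haveI : Algebra.FiniteType k Γ(T.left, U.1) := by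
    have h1 : (T.hom.appLE ⊤ U.1 le_top).hom.FiniteType :=
      HasRingHomProperty.appLE (P := @LocallyOfFiniteType) T.hom ‹_› ⟨⊤, isAffineOpen_top _⟩ U le_top
    exact h1.comp (RingHom.FiniteType.of_surjective _
      (ConcreteCategory.bijective_of_isIso (Scheme.ΓSpecIso (CommRingCat.of k)).inv).2)
  haveI : IsNoetherianRing Γ(T.left, U.1) := IsLocallyNoetherian.component_noetherian U
  refine eq_zero_of_localization a fun M hM => ?_
  let R := Localization.AtPrime M
  have key : ∀ n : ℕ, a ∈ M ^ (n + 1) := fun n => by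
    let C := Γ(T.left, U.1) ⧸ M ^ (n + 1)
    let q : Γ(T.left, U.1) ⟶ CommRingCat.of C := CommRingCat.ofHom (Ideal.Quotient.mk (M ^ (n + 1)))
    let u : Spec (CommRingCat.of C) ⟶ T.left := Spec.map q ≫ U.2.fromSpec
    have huU : u ≫ T.hom = Spec.map (CommRingCat.ofHom (algebraMap k C)) := by
      rw [Category.assoc, ← IsAffineOpen.SpecMap_appLE_fromSpec T.hom (isAffineOpen_top _) U.2 le_top,
        IsAffineOpen.fromSpec_top, Scheme.isoSpec_Spec_inv, ← Spec.map_comp, ← Spec.map_comp]
      rfl
    haveI : Subsingleton (Spec (CommRingCat.of C)) := by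
      refine ⟨fun x y => PrimeSpectrum.ext ?_⟩
      have hx : ∀ x : PrimeSpectrum C, x.asIdeal.comap (Ideal.Quotient.mk (M ^ (n + 1))) = M := fun x => by
        refine (hM.eq_of_le (Ideal.comap_ne_top _ x.2.ne_top) ?_).symm
        refine (Ideal.IsPrime.pow_le_iff (hP := x.2.comap _) (Nat.succ_ne_zero n)).1 ?_
        intro r hr
        rw [Ideal.mem_comap, Ideal.Quotient.eq_zero_iff_mem.2 hr]
        exact zero_mem _
      exact Ideal.comap_injective_of_surjective _ Ideal.Quotient.mk_surjective ((hx x).trans (hx y).symm)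
    haveI : IsArtinianRing C := by
      refine isArtinianRing_iff_krullDimLE_zero.2 ?_
      haveI : Subsingleton (PrimeSpectrum C) := ‹Subsingleton (Spec (CommRingCat.of C))›
      exact Ring.krullDimLE_zero_iff.2 fun I hI => by
        obtain ⟨m, hm, hle⟩ := Ideal.exists_le_maximal I hI.ne_top
        obtain rfl : I = m :=
          congrArg PrimeSpectrum.asIdeal (Subsingleton.elim (⟨I, hI⟩ : PrimeSpectrum C) ⟨m, hm.isPrime⟩)
        exact hm
    haveI : Algebra.FiniteType k C :=
      Algebra.FiniteType.of_surjective (IsScalarTower.toAlgHom k Γ(T.left, U.1) C) Ideal.Quotient.mk_surjective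
    haveI : Module.Finite k C := (Module.finite_iff_isArtinianRing k C).2 ‹_›
    haveI : IsFinite (u ≫ T.hom) := by
      rw [huU, IsFinite.SpecMap_iff]
      exact RingHom.finite_algebraMap.2 inferInstance
    obtain ⟨w, hw⟩ := h (Over.mk (u ≫ T.hom)) ‹_› ‹_› (Over.homMk u rfl)
    have hwu : w.left ≫ π.left = u := congrArg Over.Hom.left hw
    let W := π.left ⁻¹ᵁ U.1
    have hW : IsAffineOpen W := U.2.preimage π.left
    have hr : Set.range w.left ⊆ Set.range hW.fromSpec := by
      rw [hW.range_fromSpec]
      rintro _ ⟨x, rfl⟩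
      show π.left (w.left x) ∈ U.1
      rw [← Scheme.Hom.comp_apply, hwu]
      exact U.2.range_fromSpec.le ⟨(Spec.map q) x, rfl⟩
    let ψ : Γ(Z.left, W) ⟶ CommRingCat.of C := Spec.preimage (IsOpenImmersion.lift hW.fromSpec w.left hr)
    have hψ : Spec.map (π.left.appLE U.1 W le_rfl ≫ ψ) ≫ U.2.fromSpec = Spec.map q ≫ U.2.fromSpec := by
      rw [Spec.map_comp, Category.assoc, IsAffineOpen.SpecMap_appLE_fromSpec π.left U.2 hW le_rfl,
        Spec.map_preimage, IsOpenImmersion.lift_fac_assoc]
      exact hwu
    have hq := Spec.map_injective ((cancel_mono U.2.fromSpec).1 hψ)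
    refine Ideal.Quotient.eq_zero_iff_mem.1 ?_
    have := congr(($hq).hom a)
    rw [CommRingCat.comp_apply, show π.left.appLE U.1 W le_rfl = π.left.app U.1 from Scheme.Hom.appLE_eq_app ..] at this
    rw [show (π.left.app U.1).hom a = 0 from ha, map_zero] at this
    exact this.symm
  have hmem : algebraMap _ R a ∈ ⨅ n : ℕ, IsLocalRing.maximalIdeal R ^ n := by
    refine Ideal.mem_iInf.2 fun n => ?_
    cases n with
    | zero => simp
    | succ n =>
      rw [← Localization.AtPrime.map_eq_maximalIdeal, ← Ideal.map_pow]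
      exact Ideal.mem_map_of_mem _ (key n)
  haveI : IsNoetherianRing R := IsLocalization.isNoetherianRing M.primeCompl R inferInstance
  rwa [Ideal.iInf_pow_eq_bot_of_isLocalRing _ (IsLocalRing.maximalIdeal.isMaximal R).ne_top, Ideal.mem_bot] at hmem

variable {A : Over (Spec (CommRingCat.of k))} [GrpObj A] [IsProper A.hom] [GeometricallyIntegral A.hom]
  {L : A.left.Modules} {hL : PicF.IsInvertible L}

/-- Over a base of finite type every family comes from a point. -/
theorem exists_section (hp : Principal hL) {T : Over (Spec (CommRingCat.of k))} [LocallyOfFiniteType T.hom]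
    {Fc : (PicF.XT A.hom T).Modules} (hc : PicF.IsInvertible Fc)
    (hc0 : AddFam (clA hc : PicA (A ⊗ T).left)) :
    ∃ v : T ⟶ A ⊗ T, v ≫ snd A T = 𝟙 T ∧ Represents hL (clA hc) v := by
  haveI : IsCommMonObj A := isCommMonObj_field
  obtain ⟨Z, i, hi, hmono, huniv, hfac⟩ := exists_locus (hL := hL) hp hc hc0
  haveI := hi
  haveI := hmono
  let π := i ≫ snd A T
  haveI : IsProper (snd A T).left := MorphismProperty.pullback_snd (P := @IsProper) A.hom T.hom ‹_›
  haveI : IsProper π.left := inferInstanceAs (IsProper (i.left ≫ (snd A T).left))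
  haveI : IsClosedImmersion π.left := (IsClosedImmersion.iff_isProper_and_mono _).2 ⟨‹_›, inferInstance⟩
  haveI : IsIso π.left := isIso_of_artinian_points π fun U hU hU' u => by
    haveI := hU
    haveI := hU'
    haveI : IsLocallyNoetherian U.left := LocallyOfFiniteType.isLocallyNoetherian U.hom
    have hcu := AmpleDevLib.isInvertible_pb (PicF.XTmap A.hom u) hc
    obtain ⟨v, hv, M, hM, e⟩ := exists_section_artin hp hcu (by
      rw [← pullA_clA _ hc, ← AVThetaLib.XTmap_eq]; exact hc0.pull u)
    have hv' : lift (v ≫ fst A U) u ≫ snd A T = u := lift_snd _ _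
    obtain ⟨w, hw⟩ := hfac U ‹_› (lift (v ≫ fst A U) u) ⟨M, hM, by
      rw [hv', lift_fst]
      rw [hv, whiskerLeft_id, ← pullA_clA _ hc, ← AVThetaLib.XTmap_eq] at e
      rw [← e]
      exact (pullA_id _).symm⟩
    exact ⟨w, by rw [← Category.assoc, hw, hv']⟩
  haveI : IsIso ((Over.forget _).map π) := ‹IsIso π.left›
  haveI : IsIso π := isIso_of_reflects_iso π (Over.forget _)
  exact ⟨inv π ≫ i, (Category.assoc _ _ _).trans (IsIso.inv_hom_id π), huniv.comp (inv π)⟩

end AVDualLib
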