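import Groth.Agent.AVDualLib.PicSmooth
import Groth.Agent.AVIndexLib.DualBC
import Groth.Agent.FibDimLib.FieldExt
import Mathlib.AlgebraicGeometry.Morphisms.LocalFlatDescent

/-!
The Picard scheme of an abelian variety over any field is smooth of the same dimension.
-/

set_option autoImplicit false
set_option maxHeartbeats 1000000
set_option maxRecDepth 8000
set_option backward.isDefEq.respectTransparency false
set_option linter.style.haveILetI false
set_option linter.unusedSectionVars false

noncomputable section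

universe u

open CategoryTheory CategoryTheory.Limits MonoidalCategory CartesianMonoidalCategory MonObj AlgebraicGeometry
open CubeConsLib AVIndexLib

namespace AVDualLib

variable {S S' : Scheme.{u}} (t : S' ⟶ S) {X P : Over S}
  {φ : AgPol.DualMap X P} (hP : AbDual.IsRelPicK Scheme.fppfPrecoverage X.hom P φ)

include hP in
/-- The base change of a scheme representing the Picard functor represents the Picard functor. -/
theorem isRelPicK_bc :
    AbDual.IsRelPicK Scheme.fppfPrecoverage (Red.bc t X).hom (Red.bc t P) (AgPol.bcDual t X P φ) := by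
  have hinv : ∀ {A B : Scheme.{u}} (g : A ⟶ B) {c : PicF.Cl B}, PicF.IsInvertibleCl c →
      PicF.IsInvertibleCl (PicF.pullCl g c) := by
    rintro A B g _ ⟨L, rfl, hL⟩
    exact ⟨_, rfl, AmpleDevLib.isInvertible_pb g hL⟩
  refine ⟨fun T T' g c hc => toDn_injective t ?_, fun T g => ?_, fun T c c' hc hc' e => ?_⟩
  · rw [toDn_comp, toDn_bcDual, toDn_bcDual, pullCl_pullCl, inv_bcXTIso_natural t g, ← pullCl_pullCl]
    exact hP.natural _ _ (dnMap t g) _ (hinv _ hc)
  · obtain ⟨R, hR, h⟩ := hP.locallySurjective (dn t T) (toDn t g)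
    refine ⟨R, hR, fun U u hu => ?_⟩
    obtain ⟨c, hc, e⟩ := h u hu
    let j : dn t (AbDual.ovr T u) ⟶ AbDual.ovr (dn t T) u :=
      Over.homMk (𝟙 U) ((Category.id_comp _).trans (Category.assoc _ _ _).symm)
    refine ⟨PicF.pullCl (AgPol.bcXTIso t X _).hom (PicF.pullCl (PicF.XTmap X.hom j) c), hinv _ (hinv _ hc),
      toDn_injective t ?_⟩
    rw [toDn_bcDual, pullCl_pullCl, Iso.inv_hom_id, pullCl_id, hP.natural _ _ j c hc, e, toDn_comp,
      ← Category.assoc]
    congr 1
  · have e' := congrArg (toDn t) e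
    rw [toDn_bcDual, toDn_bcDual] at e'
    obtain ⟨R, hR, h⟩ := hP.locallyInjective _ _ _ (hinv _ hc) (hinv _ hc') e'
    refine ⟨R, hR, fun U u hu => ?_⟩
    let j : dn t (AbDual.ovr T u) ⟶ AbDual.ovr (dn t T) u :=
      Over.homMk (𝟙 U) ((Category.id_comp _).trans (Category.assoc _ _ _).symm)
    have key : PicF.XTmap (Red.bc t X).hom (AbDual.ovrHom T u) =
        ((AgPol.bcXTIso t X _).hom ≫ PicF.XTmap X.hom j) ≫ PicF.XTmap X.hom (AbDual.ovrHom (dn t T) u) ≫
          (AgPol.bcXTIso t X T).inv := by
      rw [Category.assoc, ← Category.assoc (PicF.XTmap X.hom j)]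
      rw [show PicF.XTmap X.hom j ≫ PicF.XTmap X.hom (AbDual.ovrHom (dn t T) u) =
        PicF.XTmap X.hom (dnMap t (AbDual.ovrHom T u)) from ?_]
      · rw [← inv_bcXTIso_natural, Iso.hom_inv_id_assoc]
      · apply pullback.hom_ext
        · rw [Category.assoc, XTmap_fst, XTmap_fst, XTmap_fst]
        · rw [Category.assoc, XTmap_snd, ← Category.assoc, XTmap_snd, XTmap_snd, Category.assoc]
          simp [j, AbDual.ovrHom]
    rw [key]
    simp only [← pullCl_pullCl]
    rw [h u hu]

theorem smooth_and_dim {k : Type u} [Field k] {X : Over (Spec (CommRingCat.of k))} [GrpObj X] [IsProper X.hom]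
    [GeometricallyIntegral X.hom] {g : ℕ} (hg : topologicalKrullDim X.left = (g : ℕ))
    {P : Over (Spec (CommRingCat.of k))} [LocallyOfFiniteType P.hom] {φ : AgPol.DualMap X P}
    (hP : AbDual.IsRelPicK Scheme.fppfPrecoverage X.hom P φ) :
    Smooth P.hom ∧ topologicalKrullDim P.left = (g : ℕ) := by
  let Ω := AlgebraicClosure k
  let t := Spec.map (CommRingCat.ofHom (algebraMap k Ω))
  haveI : Flat t := by
    rw [HasRingHomProperty.Spec_iff (P := @Flat)]
    show RingHom.Flat (algebraMap k Ω)
    rw [RingHom.flat_algebraMap_iff]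
    infer_instance
  haveI : Surjective t := ⟨fun x => ⟨IsLocalRing.closedPoint Ω, Subsingleton.elim (α := PrimeSpectrum k) _ _⟩⟩
  let X' := Red.bc t X
  let P' := Red.bc t P
  haveI : IsProper X'.hom := inferInstanceAs (IsProper (Limits.pullback.snd X.hom t))
  haveI : GeometricallyIntegral X'.hom := inferInstanceAs (GeometricallyIntegral (Limits.pullback.snd X.hom t))
  haveI : LocallyOfFiniteType P'.hom := inferInstanceAs (LocallyOfFiniteType (Limits.pullback.snd P.hom t))
  have hg' : topologicalKrullDim X'.left = (g : ℕ) :=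
    (FibDimLib.topologicalKrullDim_pullback_field k Ω X.hom).trans hg
  obtain ⟨hs, hd⟩ := smooth_and_dim_of_isAlgClosed (A := X') (isRelPicK_bc t hP) hg'
  haveI hs' : Smooth (Limits.pullback.snd P.hom t) := hs
  exact ⟨MorphismProperty.of_pullback_snd_of_descendsAlong
    (Q := @Surjective ⊓ @Flat ⊓ @QuasiCompact) ⟨⟨inferInstance, inferInstance⟩, inferInstance⟩ hs',
    (FibDimLib.topologicalKrullDim_pullback_field k Ω P.hom).symm.trans hd⟩

end AVDualLib

end
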