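import Groth.Agent.AVDualLib.Dual
import Groth.Agent.AVAmpleLib.Exist
import Groth.Agent.CubeConsLib.PicSep
import Groth.Agent.FlatLib.SchemeFlat
import Groth.Agent.MiscFlat6.TopDimCovers
import Groth.Agent.AbSchLib.DimFinite
import Groth.Agent.AlgSpLib.ReducedStalk
import Mathlib.AlgebraicGeometry.Morphisms.FlatMono
import Mathlib.AlgebraicGeometry.ZariskisMainTheorem

/-!
The Picard scheme of an abelian variety over an algebraically closed field is covered by open copies of the quotient
by `K(L)`: translates of the descended family are monomorphisms which lift infinitesimal neighbourhoods.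
-/

set_option autoImplicit false
set_option maxHeartbeats 1000000
set_option maxRecDepth 8000
set_option backward.isDefEq.respectTransparency false
set_option linter.style.haveILetI false
set_option linter.unusedSectionVars false

noncomputable section

universe u

open CategoryTheory CategoryTheory.Limits MonoidalCategory CartesianMonoidalCategory MonObj AlgebraicGeometry
open CubeConsLib AVVanishLib AVAmpleLib AVIndexLib IsLocalRing

namespace AVDualLib

/-- Two points with values in a field at the same closed point agree. -/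
theorem eq_of_apply_closed {k : Type u} [Field k] [IsAlgClosed k] {P : Scheme.{u}} (f : P ⟶ Spec (CommRingCat.of k))
    [LocallyOfFiniteType f] {K : Type u} [Field K] {g g' : Spec (CommRingCat.of K) ⟶ P} {p : P}
    (hp : IsClosed ({p} : Set P)) (hg : g (closedPoint K) = p) (hg' : g' (closedPoint K) = p)
    (h : g ≫ f = g' ≫ f) : g = g' := by
  have hex : ∀ (g : Spec (CommRingCat.of K) ⟶ P), g (closedPoint K) = p →
      ∃ a : Spec (CommRingCat.of K) ⟶ Spec (P.residueField p), g = a ≫ P.fromSpecResidueField p := by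
    rintro g rfl
    exact ⟨_, (Scheme.descResidueField_stalkClosedPointTo_fromSpecResidueField K _ g).symm⟩
  obtain ⟨a, rfl⟩ := hex g hg
  obtain ⟨a', rfl⟩ := hex g' hg'
  haveI : IsIso (P.fromSpecResidueField p ≫ f) := by
    rw [← SpecMap_residueFieldIsoBase_inv f p hp]
    infer_instance
  simp only [Category.assoc, cancel_mono] at h
  rw [h]

/-- An injective map which lifts infinitesimal neighbourhoods up to faithfully flat extensions is injective on the stalk. -/
theorem stalkMap_injective_of_lift {Y P : Scheme.{u}} [IsLocallyNoetherian P] (f : Y ⟶ P) (hf : Function.Injective f)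
    (y : Y)
    (H : ∀ (C : CommRingCat.{u}) (q : P.presheaf.stalk (f y) ⟶ C), Function.Surjective q.hom →
      Subsingleton (PrimeSpectrum C) → Nontrivial C →
      ∃ (D : CommRingCat.{u}) (_ : IsLocalRing D) (θ : C ⟶ D) (w : Spec D ⟶ Y),
        Function.Injective θ.hom ∧ IsLocalHom (q ≫ θ).hom ∧ w ≫ f = Spec.map (q ≫ θ) ≫ P.fromSpecStalk (f y)) :
    Function.Injective (f.stalkMap y).hom := by
  rw [injective_iff_map_eq_zero]
  intro r hr
  let O := P.presheaf.stalk (f y)
  have hr' : ∀ n, r ∈ maximalIdeal O ^ (n + 1) := by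
    intro n
    let C : CommRingCat.{u} := CommRingCat.of (O ⧸ maximalIdeal O ^ (n + 1))
    let q : O ⟶ C := CommRingCat.ofHom (Ideal.Quotient.mk _)
    haveI : Nontrivial C := Ideal.Quotient.nontrivial_iff.2 fun h => (maximalIdeal.isMaximal O).ne_top
      (top_le_iff.1 (h ▸ Ideal.pow_le_self (Nat.succ_ne_zero n)))
    have hsub : Subsingleton (PrimeSpectrum C) := ⟨fun a b => by
      refine PrimeSpectrum.comap_injective_of_surjective _ (Ideal.Quotient.mk_surjective (I := maximalIdeal O ^ (n + 1))) ?_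
      have : ∀ c : PrimeSpectrum C, PrimeSpectrum.comap (Ideal.Quotient.mk (maximalIdeal O ^ (n + 1))) c = closedPoint O := fun c => by
        refine PrimeSpectrum.ext ((maximalIdeal.isMaximal O).eq_of_le (Ideal.IsPrime.ne_top inferInstance) fun x hx => ?_).symm
        refine Ideal.IsPrime.mem_of_pow_mem inferInstance (n + 1) ?_
        show Ideal.Quotient.mk _ (x ^ (n + 1)) ∈ c.asIdeal
        rw [Ideal.Quotient.eq_zero_iff_mem.2 (Ideal.pow_mem_pow hx _)]
        exact zero_mem _
      rw [this a, this b]⟩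
    obtain ⟨D, hD, θ, w, hθ, hloc, hw⟩ := H C q Ideal.Quotient.mk_surjective hsub inferInstance
    haveI := hloc
    have hwy : w (closedPoint D) = y := hf (by
      rw [← Scheme.Hom.comp_apply, hw, Scheme.Hom.comp_apply, Spec_closedPoint, Scheme.fromSpecStalk_closedPoint])
    have hex : ∀ y' : Y, w (closedPoint D) = y' →
        ∃ φ : Y.presheaf.stalk y' ⟶ D, IsLocalHom φ.hom ∧ w = Spec.map φ ≫ Y.fromSpecStalk y' := by
      rintro y' rfl
      exact ⟨Scheme.stalkClosedPointTo w, inferInstance, (Scheme.Spec_stalkClosedPointTo_fromSpecStalk w).symm⟩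
    obtain ⟨φ, hφ, hwφ⟩ := hex y hwy
    haveI := hφ
    haveI : IsLocalHom (f.stalkMap y ≫ φ).hom := by
      rw [CommRingCat.hom_comp]; infer_instance
    have key : (SpecToEquivOfLocalRing P D).symm ⟨f y, f.stalkMap y ≫ φ, inferInstance⟩ =
        (SpecToEquivOfLocalRing P D).symm ⟨f y, q ≫ θ, hloc⟩ := by
      change Spec.map (f.stalkMap y ≫ φ) ≫ P.fromSpecStalk (f y) = Spec.map (q ≫ θ) ≫ P.fromSpecStalk (f y)
      rw [← hw, hwφ, Spec.map_comp, Category.assoc, Category.assoc, Scheme.SpecMap_stalkMap_fromSpecStalk]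
    have h := eq_of_heq (Sigma.mk.inj_iff.1 ((SpecToEquivOfLocalRing P D).symm.injective key)).2
    have h2 : φ.hom ((f.stalkMap y).hom r) = θ.hom (Ideal.Quotient.mk (maximalIdeal O ^ (n + 1)) r) :=
      congr(($(congrArg Subtype.val h)).hom r)
    rw [hr, map_zero, eq_comm, map_eq_zero_iff θ.hom hθ] at h2
    exact Ideal.Quotient.eq_zero_iff_mem.1 h2
  have hbot := Ideal.iInf_pow_eq_bot_of_isLocalRing (maximalIdeal O) (maximalIdeal.isMaximal O).ne_top
  have : r ∈ ⨅ n, maximalIdeal O ^ n := Ideal.mem_iInf.2 fun n =>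
    Ideal.pow_le_pow_right (Nat.le_succ n) (hr' n)
  rw [hbot] at this
  exact this

/-- An open set containing the closed points of a Jacobson space is everything. -/
theorem eq_univ_of_closedPoints {X : Type*} [TopologicalSpace X] [JacobsonSpace X] {U : Set X} (hU : IsOpen U)
    (h : closedPoints X ⊆ U) : U = Set.univ := by
  by_contra hne
  have hne' : (Uᶜ ∩ closedPoints X).Nonempty :=
    nonempty_inter_closedPoints (Set.nonempty_compl.2 hne) hU.isClosed_compl.isLocallyClosed
  obtain ⟨x, hx, hx'⟩ := hne'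
  exact hx (h hx')

variable {k : Type u} [Field k] [IsAlgClosed k] {A : Over (Spec (CommRingCat.of k))} [GrpObj A] [IsProper A.hom]
  [GeometricallyIntegral A.hom]

theorem addFam_fam {L : A.left.Modules} {hL : PicF.IsInvertible L} {Y : Over (Spec (CommRingCat.of k))} [GrpObj Y]
    [IsProper Y.hom] [GeometricallyIntegral Y.hom] {π : A ⟶ Y} [IsMonHom π] [IsFinite π.left] [Surjective π.left]
    {Q : (Y ⊗ A).left.Modules} {hQ : PicF.IsInvertible Q} (h : QuotPair hL Y π hQ)
    {T : Over (Spec (CommRingCat.of k))} (y : T ⟶ Y) : AddFam (fam hQ y : PicA (A ⊗ T).left) := fun V a b s => by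
  have e : ∀ x : V ⟶ A, ev (fam hQ y : PicA (A ⊗ T).left) x s = P hQ (lift (s ≫ y) x) := fun x => by
    rw [ev, fam, pullA_P, comp_lift, lift_fst, lift_snd_assoc]
  rw [e, e, e, e, h.mul_left]
  have e1 := h.mul_left (1 : V ⟶ A) 1 (s ≫ y)
  rw [_root_.mul_one] at e1
  rw [left_eq_add.1 e1, sub_zero]

/-- The class of a point of a scheme representing the Picard functor. -/
theorem exists_class_of_point {P : Over (Spec (CommRingCat.of k))}
    {φ : ∀ T : Over (Spec (CommRingCat.of k)), PicF.Cl (PicF.XT A.hom T) → (T ⟶ P)}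
    (hP : AbDual.IsRelPicK Scheme.fppfPrecoverage A.hom P φ) (p : 𝟙_ (Over (Spec (CommRingCat.of k))) ⟶ P) :
    ∃ (M : (PicF.XT A.hom (𝟙_ (Over (Spec (CommRingCat.of k))))).Modules),
      PicF.IsInvertible M ∧ φ _ (PicF.cl M) = p := by
  let T : Over (Spec (CommRingCat.of k)) := 𝟙_ _
  obtain ⟨R, hR, hl⟩ := hP.locallySurjective T p
  obtain ⟨U, u, x, hu, -⟩ := exists_mem_fppf hR (closedPoint k : Spec (CommRingCat.of k))
  obtain ⟨-, hlfp⟩ : Flat u ∧ LocallyOfFinitePresentation u := hR.2 hu
  let a : U ⟶ Spec (CommRingCat.of k) := u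
  haveI : LocallyOfFinitePresentation a := hlfp
  haveI : JacobsonSpace U := LocallyOfFiniteType.jacobsonSpace a
  obtain ⟨z, -, hz⟩ := nonempty_inter_closedPoints (X := U) (⟨x, trivial⟩ : (Set.univ : Set U).Nonempty)
    isOpen_univ.isLocallyClosed
  let j : T ⟶ AbDual.ovr T u := Over.homMk (pointOfClosedPoint a z hz) (pointOfClosedPoint_comp a z hz)
  have hj : j ≫ AbDual.ovrHom T u = 𝟙 T := Over.OverMorphism.ext (pointOfClosedPoint_comp a z hz)
  obtain ⟨c, ⟨M, rfl, hM⟩, hc⟩ := hl u hu
  refine ⟨_, AmpleDevLib.isInvertible_pb (PicF.XTmap A.hom j) hM, ?_⟩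
  refine (hP.natural _ T j _ ⟨M, rfl, hM⟩).trans ?_
  rw [hc, ← Category.assoc, hj, Category.id_comp]

variable {P : Over (Spec (CommRingCat.of k))} [LocallyOfFiniteType P.hom]
  {φ : ∀ T : Over (Spec (CommRingCat.of k)), PicF.Cl (PicF.XT A.hom T) → (T ⟶ P)}
  (hP : AbDual.IsRelPicK Scheme.fppfPrecoverage A.hom P φ)

include hP

/-- Every point of the Picard scheme lies in an open copy of the quotient by `K(L)`. -/
theorem exists_open_copy {L : A.left.Modules} {hL : PicF.IsInvertible L} {Y : Over (Spec (CommRingCat.of k))} [GrpObj Y]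
    [IsProper Y.hom] [GeometricallyIntegral Y.hom] {π : A ⟶ Y} [IsMonHom π] [IsFinite π.left] [Surjective π.left]
    {Q : (Y ⊗ A).left.Modules} {hQ : PicF.IsInvertible Q} (h : QuotPair hL Y π hQ)
    (p : P.left) (hp : IsClosed ({p} : Set P.left)) :
    ∃ Ψ : Y ⟶ P, IsOpenImmersion Ψ.left ∧ p ∈ Set.range Ψ.left := by
  haveI : IsCommMonObj A := isCommMonObj_field
  haveI : IsCommMonObj Y := isCommMonObj_field
  let One : Over (Spec (CommRingCat.of k)) := 𝟙_ _
  let pp : One ⟶ P := Over.homMk (pointOfClosedPoint P.hom p hp) (pointOfClosedPoint_comp P.hom p hp)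
  obtain ⟨M₀, hM₀, hφ₀⟩ := exists_class_of_point hP pp
  obtain ⟨F, hF, cF, -⟩ := exists_fam_module h
  -- the translated family
  let c₀ : ∀ T : Over (Spec (CommRingCat.of k)), PicA (A ⊗ T).left := fun T =>
    pullA (A ◁ toUnit T).left (clA hM₀ : PicA (A ⊗ One).left)
  have hc₀ : ∀ {T T' : Over (Spec (CommRingCat.of k))} (g : T' ⟶ T), pullA (A ◁ g).left (c₀ T) = c₀ T' := fun g => by
    rw [pullA_comp, ← Over.comp_left, ← MonoidalCategory.whiskerLeft_comp, comp_toUnit]
  have hb := AmpleDevLib.isInvertible_pb (A ◁ toUnit Y).left hM₀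
  have hN := HilbPolyLib.isInvertible_tensor hF hb
  let N : (PicF.XT A.hom Y).Modules := CohB1.tensorMod F ((Scheme.Modules.pullback (A ◁ toUnit Y).left).obj M₀)
  have cN : (clA (show PicF.IsInvertible N from hN) : PicA (A ⊗ Y).left) = fam hQ (𝟙 Y) + c₀ Y := by
    show clA hN = _
    rw [clA_tensor hF hb, ← pullA_clA _ hM₀]
    exact congrArg (· + _) cF
  let Ψ : Y ⟶ P := φ Y (PicF.cl N)
  have cy : ∀ {T : Over (Spec (CommRingCat.of k))} (y : T ⟶ Y),
      (clA (AmpleDevLib.isInvertible_pb (PicF.XTmap A.hom y) (show PicF.IsInvertible N from hN)) :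
        PicA (A ⊗ T).left) = fam hQ y + c₀ T := fun {T} y => by
    rw [← pullA_clA _ (show PicF.IsInvertible N from hN), ← AVThetaLib.XTmap_eq]
    show pullA (A ◁ y).left (clA (show PicF.IsInvertible N from hN) : PicA (A ⊗ Y).left) = _
    rw [cN, map_add, pullA_fam, Category.comp_id, hc₀]
  have hnat : ∀ {T : Over (Spec (CommRingCat.of k))} (y : T ⟶ Y),
      φ T (PicF.cl ((Scheme.Modules.pullback (PicF.XTmap A.hom y)).obj N)) = y ≫ Ψ := fun {T} y =>
    hP.natural Y T y _ ⟨N, rfl, hN⟩
  have hfam1 : ∀ {T : Over (Spec (CommRingCat.of k))}, fam hQ (1 : T ⟶ Y) = 0 := fun {T} => by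
    rw [fam, MonObj.comp_one]
    have e := h.mul_right (fst A T) (1 : _ ⟶ Y) 1
    rw [_root_.mul_one] at e
    exact (left_eq_add.1 e :)
  have hpp : (1 : One ⟶ Y) ≫ Ψ = pp := by
    rw [← hnat, ← hφ₀]
    refine congrArg (φ One) (Quot.sound ((clA_eq_iff (AmpleDevLib.isInvertible_pb _ hN) hM₀).1 ?_))
    refine (cy (1 : One ⟶ Y)).trans ?_
    rw [hfam1, zero_add]
    show pullA (A ◁ toUnit One).left _ = _
    rw [toUnit_unique (toUnit One) (𝟙 One), whiskerLeft_id, Over.id_left, pullA_id]
  haveI : Mono Ψ := ⟨fun {T} x y hxy => by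
    obtain ⟨R, hR, hloc⟩ := hP.locallyInjective T _ _ ⟨_, rfl, AmpleDevLib.isInvertible_pb (PicF.XTmap A.hom x) hN⟩
      ⟨_, rfl, AmpleDevLib.isInvertible_pb (PicF.XTmap A.hom y) hN⟩ ((hnat x).trans (hxy.trans (hnat y).symm))
    refine hom_ext_fppf hR fun U u hu => eq_of_fam h (N := 0) ?_
    have hx := AmpleDevLib.isInvertible_pb (PicF.XTmap A.hom x) (show PicF.IsInvertible N from hN)
    have hy := AmpleDevLib.isInvertible_pb (PicF.XTmap A.hom y) (show PicF.IsInvertible N from hN)
    have e : clA (AmpleDevLib.isInvertible_pb (PicF.XTmap A.hom (AbDual.ovrHom T u)) hx) =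
        clA (AmpleDevLib.isInvertible_pb (PicF.XTmap A.hom (AbDual.ovrHom T u)) hy) :=
      (clA_eq_iff _ _).2 (cl_eq_iff.1 (congrArg toI (hloc u hu)))
    rw [← pullA_clA _ hx, ← pullA_clA _ hy, cy, cy, ← AVThetaLib.XTmap_eq] at e
    have e' : pullA (A ◁ AbDual.ovrHom T u).left (fam hQ x + c₀ T) =
        pullA (A ◁ AbDual.ovrHom T u).left (fam hQ y + c₀ T) := e
    rw [map_add, map_add, add_left_inj, pullA_fam, pullA_fam] at e'
    rw [map_zero, add_zero]
    exact e'⟩
  haveI : Mono Ψ.left := inferInstance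
  haveI := CubeConsLib.isSeparated_of_isRelPicK A.hom hP
  haveI : IsProper Ψ.left := by
    haveI : IsProper (Ψ.left ≫ P.hom) := by rw [Over.w Ψ]; infer_instance
    exact IsProper.of_comp Ψ.left P.hom
  haveI : IsClosedImmersion Ψ.left := (IsClosedImmersion.iff_isProper_and_mono Ψ.left).2 ⟨inferInstance, inferInstance⟩
  haveI : IsLocallyNoetherian P.left := LocallyOfFiniteType.isLocallyNoetherian P.hom
  have hinj : Function.Injective Ψ.left := Ψ.left.isClosedEmbedding.injective
  -- flatness at the closed points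
  have hflat : ∀ y : Y.left, IsClosed ({y} : Set Y.left) → (Ψ.left.stalkMap y).hom.Flat := by
    intro y hy
    refine RingHom.Flat.of_bijective ⟨stalkMap_injective_of_lift Ψ.left hinj y fun C q hq hC hC' => ?_,
      Ψ.left.stalkMap_surjective y⟩
    have hpc : IsClosed ({Ψ.left y} : Set P.left) := by
      simpa using Ψ.left.isClosedEmbedding.isClosedMap _ hy
    let y₀ : One ⟶ Y := Over.homMk (pointOfClosedPoint Y.hom y hy) (pointOfClosedPoint_comp Y.hom y hy)
    let T : Over (Spec (CommRingCat.of k)) := Over.mk (Spec.map q ≫ P.left.fromSpecStalk (Ψ.left y) ≫ P.hom)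
    let v₀ : T ⟶ P := Over.homMk (Spec.map q ≫ P.left.fromSpecStalk (Ψ.left y)) (Category.assoc _ _ _)
    obtain ⟨R, hR, hl⟩ := hP.locallySurjective T v₀
    haveI : IsLocalRing C := IsLocalRing.of_surjective' _ hq
    obtain ⟨U, u', x, hu, hx⟩ := exists_mem_fppf hR (closedPoint C : Spec C)
    obtain ⟨hfu, -⟩ : Flat u' ∧ LocallyOfFinitePresentation u' := hR.2 hu
    let u : U ⟶ Spec C := u'
    haveI : Flat u := hfu
    haveI : Flat (U.fromSpecStalk x) := AlgSpLib.flat_fromSpecStalk x
    let D : CommRingCat.{u} := U.presheaf.stalk x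
    let θ : C ⟶ D := Spec.preimage (U.fromSpecStalk x ≫ u)
    have hθ : Spec.map θ = U.fromSpecStalk x ≫ u := Spec.map_preimage _
    haveI : IsLocalHom θ.hom := by
      refine ((IsLocalRing.local_hom_TFAE θ.hom).out 0 4).2 ?_
      have h1 : (Spec.map θ) (closedPoint D) = closedPoint C := by
        rw [hθ, Scheme.Hom.comp_apply, Scheme.fromSpecStalk_closedPoint]
        exact hx
      exact congrArg PrimeSpectrum.asIdeal h1
    have hθi : Function.Injective θ.hom := by
      haveI : Flat (Spec.map θ) := by rw [hθ]; infer_instance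
      letI : Algebra C D := θ.hom.toAlgebra
      haveI : Module.Flat C D := (HasRingHomProperty.Spec_iff (P := @Flat)).1 ‹_›
      haveI : IsLocalHom (algebraMap C D) := ‹IsLocalHom θ.hom›
      haveI := Module.FaithfullyFlat.of_flat_of_isLocalHom (A := C) (B := D)
      exact FaithfulSMul.algebraMap_injective C D
    haveI : IsLocalHom q.hom := IsLocalHom.of_surjective _ hq
    let ψ : CommRingCat.of k ⟶ D := Spec.preimage (Spec.map θ ≫ T.hom)
    let TD : Over (Spec (CommRingCat.of k)) := Over.mk (Spec.map (CommRingCat.ofHom ψ.hom))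
    have hψ : Spec.map (CommRingCat.ofHom ψ.hom) = Spec.map θ ≫ T.hom := Spec.map_preimage _
    let g : TD ⟶ AbDual.ovr T u := Over.homMk (U.fromSpecStalk x) (by
      show U.fromSpecStalk x ≫ u ≫ T.hom = Spec.map (CommRingCat.ofHom ψ.hom)
      rw [hψ, hθ, Category.assoc])
    obtain ⟨c, ⟨Fc, rfl, hFc⟩, hcφ⟩ := hl u hu
    have hGc := AmpleDevLib.isInvertible_pb (PicF.XTmap A.hom g) hFc
    have hv : φ TD (PicF.pullCl (PicF.XTmap A.hom g) (PicF.cl Fc)) = g ≫ AbDual.ovrHom T u ≫ v₀ :=
      (hP.natural _ TD g _ ⟨Fc, rfl, hFc⟩).trans (congrArg (g ≫ ·) hcφ)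
    have hvl : (g ≫ AbDual.ovrHom T u ≫ v₀).left = Spec.map (q ≫ θ) ≫ P.left.fromSpecStalk (Ψ.left y) := by
      rw [Spec.map_comp, hθ]
      show U.fromSpecStalk x ≫ u ≫ Spec.map q ≫ _ = _
      simp only [Category.assoc]
    -- on every fibre it is the class of the point
    let yT : TD ⟶ Y := toUnit TD ≫ y₀
    have hy₀ := AmpleDevLib.isInvertible_pb (PicF.XTmap A.hom yT) (show PicF.IsInvertible N from hN)
    obtain ⟨E₁, hE₁, cE₁⟩ := exists_sub hGc hy₀
    obtain ⟨E₂, hE₂, cE₂⟩ := exists_sub hGc (AmpleDevLib.isInvertible_pb (A ◁ toUnit TD).left hM₀)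
    have hpz : AbDual.IsPicZeroCl A.hom TD (PicF.cl (show (PicF.XT A.hom TD).Modules from E₁)) := by
      refine ⟨E₁, rfl, hE₁, fun z Ω _ _ σ hσ => ?_⟩
      let qq := PicF.XTproj A.hom TD
      have hfib : pullA (qq.fiberι z) (clA hGc - clA hy₀) = 0 := by
        refine (phi_eq_iff A.hom hP TD hGc hy₀ z).1 ?_
        show TD.left.fromSpecResidueField z ≫ (φ TD (PicF.pullCl (PicF.XTmap A.hom g) (PicF.cl Fc))).left =
          TD.left.fromSpecResidueField z ≫ (φ TD (PicF.cl ((Scheme.Modules.pullback (PicF.XTmap A.hom yT)).obj N))).left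
        rw [hv, hnat, hvl]
        refine eq_of_apply_closed P.hom hpc ?_ ?_ ?_
        · rw [Scheme.Hom.comp_apply, Scheme.Hom.comp_apply, Spec.map_comp, Scheme.Hom.comp_apply]
          have hc : ∀ c : Spec C, (Spec.map q) c = closedPoint (P.left.presheaf.stalk (Ψ.left y)) := fun c => by
            rw [Subsingleton.elim (α := PrimeSpectrum C) c (closedPoint C)]
            exact Spec_closedPoint
          rw [hc, Scheme.fromSpecStalk_closedPoint]
        · rw [Over.comp_left, Over.comp_left, Scheme.Hom.comp_apply, Scheme.Hom.comp_apply, Scheme.Hom.comp_apply]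
          exact congrArg Ψ.left (pointOfClosedPoint_apply Y.hom y hy _)
        · rw [← hvl]
          simp only [Category.assoc, Over.w]
      have hk : pullA (qq.fiberι z) (clA hE₁) = 0 := by rw [cE₁]; exact hfib
      rw [pullA_clA _ hE₁, ← clA_one, clA_eq_iff] at hk
      have hsub : ∀ x, σ x = z := fun x => by
        rw [Subsingleton.elim (α := PrimeSpectrum Ω) x (closedPoint Ω)]
        exact (Set.ext_iff.1 hσ _).1 ⟨_, rfl⟩
      have hex : ∀ z' : TD.left, σ (closedPoint Ω) = z' →
          ∃ a : Spec (CommRingCat.of Ω) ⟶ Spec (TD.left.residueField z'), σ = a ≫ TD.left.fromSpecResidueField z' := by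
        rintro z' rfl
        exact ⟨_, (Scheme.descResidueField_stalkClosedPointTo_fromSpecResidueField Ω _ σ).symm⟩
      obtain ⟨a, ha⟩ := hex z (hsub _)
      let j : pullback qq σ ⟶ qq.fiber z := Limits.pullback.lift (pullback.fst qq σ) (pullback.snd qq σ ≫ a) (by
        rw [Category.assoc, ← ha, pullback.condition])
      have hj : j ≫ qq.fiberι z = pullback.fst qq σ := Limits.pullback.lift_fst _ _ _
      exact @isAlgEquivZero_iso Ω _ _ ⟨pullback.snd qq σ⟩ _ _
        (KFlatLib.pullUnitIso _ ≪≫ (KFlatLib.pullUnitIso j).symm ≪≫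
          (Scheme.Modules.pullback j).mapIso hk.some.symm ≪≫
          (Scheme.Modules.pullbackComp _ _).app E₁ ≪≫ (Scheme.Modules.pullbackCongr hj).app E₁)
        (isAlgTrivialAt_structure qq z Ω σ hσ)
    have hadd : AddFam (clA (show PicF.IsInvertible (show (PicF.XT A.hom TD).Modules from E₂) from hE₂) :
        PicA (A ⊗ TD).left) := by
      have e : (clA hE₂ : PicA (A ⊗ TD).left) = (clA hE₁ : PicA (A ⊗ TD).left) + fam hQ yT := by
        let gam : PicA (A ⊗ TD).left := clA hGc
        have h1 : (clA hE₁ : PicA (A ⊗ TD).left) = gam - (fam hQ yT + c₀ TD) := by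
          rw [← cy yT]; exact cE₁
        have h2 : (clA hE₂ : PicA (A ⊗ TD).left) = gam - c₀ TD := by
          refine cE₂.trans ?_
          exact congrArg (gam - ·) (pullA_clA _ hM₀).symm
        rw [h1, h2]
        abel
      exact e ▸ (addFam_of_isPicZeroCl hE₁ hpz).add (addFam_fam h yT)
    obtain ⟨w, M, hM, ew⟩ := exists_fam h ψ.hom (show PicF.IsInvertible (show (PicF.XT A.hom TD).Modules from E₂) from hE₂) hadd
    have hw : φ TD (PicF.pullCl (PicF.XTmap A.hom g) (PicF.cl Fc)) = w ≫ Ψ := by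
      refine Eq.trans ?_ (hnat w)
      refine congrArg (φ TD) (Quot.sound ((clA_eq_iff hGc (AmpleDevLib.isInvertible_pb _ hN)).1 ?_))
      refine Eq.trans ?_ (cy w).symm
      have e0 : clA hM = 0 := clA_eq_zero_of_local D hM
      rw [e0, map_zero, add_zero] at ew
      rw [← ew]
      let gam : PicA (A ⊗ TD).left := clA hGc
      show gam = (clA hE₂ : PicA (A ⊗ TD).left) + c₀ TD
      rw [show (clA hE₂ : PicA (A ⊗ TD).left) = gam - c₀ TD from
        cE₂.trans (congrArg (gam - ·) (pullA_clA _ hM₀).symm), sub_add_cancel]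
    refine ⟨D, inferInstance, θ, w.left, hθi, by rw [CommRingCat.hom_comp]; infer_instance, ?_⟩
    rw [← Over.comp_left, ← hw, hv, hvl]
  haveI : JacobsonSpace Y.left := LocallyOfFiniteType.jacobsonSpace Y.hom
  haveI : LocallyOfFinitePresentation Ψ.left := LocallyOfFinitePresentation.iff_locallyOfFiniteType.2 inferInstance
  haveI : Flat Ψ.left := (Flat.iff_flat_stalkMap _).2 fun x =>
    (eq_univ_of_closedPoints (FlatLib.isOpen_setOf_flat_stalkMap Ψ.left) fun y hy => hflat y hy).ge (Set.mem_univ x)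
  refine ⟨Ψ, IsOpenImmersion.of_flat_of_mono Ψ.left, (1 : One ⟶ Y).left (closedPoint k), ?_⟩
  rw [← Scheme.Hom.comp_apply, ← Over.comp_left, hpp]
  exact pointOfClosedPoint_apply P.hom p hp _

/-- Over an algebraically closed field the Picard scheme of an abelian variety is smooth of the same dimension. -/
theorem smooth_and_dim_of_isAlgClosed {g : ℕ} (hg : topologicalKrullDim A.left = (g : ℕ)) :
    Smooth P.hom ∧ topologicalKrullDim P.left = (g : ℕ) := by
  obtain ⟨L, hLa⟩ := AVAmpleLib.exists_ample A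
  obtain ⟨Y, hYg, hYp, hYi, π, hπm, hπf, hπs, Q, hQ, h⟩ := exists_quotPair hLa.1 fun K' iK hK => by
    haveI := hK.closed
    exact AVAmpleLib.isFinite_of_mumfordTriv hLa.1 ((MiscFlat6.isRelAmple_iff_isAmple A.hom L).2 hLa) iK
      ((hK.univ K' iK).2 ⟨𝟙 K', Category.id_comp iK⟩)
  haveI : JacobsonSpace P.left := LocallyOfFiniteType.jacobsonSpace P.hom
  choose Ψ hΨ hmem using fun p : closedPoints P.left => exists_open_copy hP h p.1 p.2
  haveI := hΨ
  let U : closedPoints P.left → P.left.Opens := fun p => (Ψ p).left.opensRange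
  have hcov : ⨆ p, U p = ⊤ := by
    refine TopologicalSpace.Opens.ext ?_
    rw [TopologicalSpace.Opens.coe_iSup, TopologicalSpace.Opens.coe_top]
    exact eq_univ_of_closedPoints (isOpen_iUnion fun p => (U p).2) fun p hp =>
      Set.mem_iUnion.2 ⟨⟨p, hp⟩, hmem ⟨p, hp⟩⟩
  constructor
  · refine (IsZariskiLocalAtSource.iff_of_iSup_eq_top (P := @Smooth) U hcov).2 fun p => ?_
    haveI := AVAmpleLib.smooth_hom Y
    haveI : Smooth ((Ψ p).left ≫ P.hom) := by rw [Over.w (Ψ p)]; infer_instance
    rw [← (Ψ p).left.isoOpensRange_inv_comp_assoc]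
    exact (MorphismProperty.cancel_left_of_respectsIso @Smooth _ _).2 ‹Smooth ((Ψ p).left ≫ P.hom)›
  · haveI : Nonempty (closedPoints P.left) := by
      let One : Over (Spec (CommRingCat.of k)) := 𝟙_ _
      let z := (φ One (PicF.cl (Coh.structureModule _))).left (closedPoint k)
      refine ⟨⟨z, ?_⟩⟩
      haveI := CubeConsLib.isSeparated_of_isRelPicK A.hom hP
      haveI : IsClosedImmersion (φ One (PicF.cl (Coh.structureModule _))).left :=
        isClosedImmersion_of_comp_eq_id P.hom _ (Over.w (φ One (PicF.cl (Coh.structureModule _))))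
      have hcl := (φ One (PicF.cl (Coh.structureModule _))).left.isClosedEmbedding.isClosed_range
      haveI : Nonempty One.left := ⟨closedPoint k⟩
      haveI : Subsingleton One.left := inferInstanceAs (Subsingleton (PrimeSpectrum k))
      have hr : Set.range (φ One (PicF.cl (Coh.structureModule _))).left = {z} :=
        Set.range_eq_singleton_iff.2 fun a => congrArg _ (Subsingleton.elim a (closedPoint k))
      rw [hr] at hcl
      exact hcl
    rw [MiscFlat6.dim_eq_iSup_of_open_cover U hcov]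
    refine le_antisymm (iSup_le fun p => ?_) (le_iSup_of_le (Classical.arbitrary _) ?_)
    all_goals
      exact le_of_eq (by
        first
        | exact ((IsHomeomorph.topologicalKrullDim_eq _ (Scheme.homeoOfIso (Ψ _).left.isoOpensRange).isHomeomorph).symm.trans
            ((AbSchLib.topologicalKrullDim_eq_of_finite_surjective π.left).symm.trans hg))
        | exact ((IsHomeomorph.topologicalKrullDim_eq _ (Scheme.homeoOfIso (Ψ _).left.isoOpensRange).isHomeomorph).symm.trans
            ((AbSchLib.topologicalKrullDim_eq_of_finite_surjective π.left).symm.trans hg)).symm)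

end AVDualLib

end
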