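import Groth.Agent.AVDualLib.Main
import Groth.Agent.AVThetaLib.MaxIso
import Groth.Agent.AVThetaLib.Norm
import Groth.Agent.CubeConsLib.Poincare
import Groth.Agent.AVRRLib.Degenerate

/-!
The quotient `Y = A/K(L)` with its family: the Mumford bundle descends to a principal class on `Y × A`.
-/

set_option autoImplicit false
set_option maxHeartbeats 1000000
set_option maxRecDepth 8000
set_option backward.isDefEq.respectTransparency false
set_option linter.style.haveILetI false
set_option linter.unusedSectionVars false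

noncomputable section

universe u

open CategoryTheory CategoryTheory.Limits MonoidalCategory CartesianMonoidalCategory MonObj AlgebraicGeometry
open CubeConsLib AVVanishLib AVAmpleLib AVIndexLib AVThetaLib ThetaGrp

namespace AVDualLib

variable {k : Type u} [Field k] [IsAlgClosed k]

theorem proper_prod (A B : Over (Spec (CommRingCat.of k))) [IsProper A.hom] [IsProper B.hom] :
    IsProper (A ⊗ B).hom := by
  haveI : IsProper (pullback.fst A.hom B.hom) := MorphismProperty.pullback_fst (P := @IsProper) _ _ ‹IsProper B.hom›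
  exact inferInstanceAs (IsProper (pullback.fst A.hom B.hom ≫ A.hom))

theorem geomInt_prod (A B : Over (Spec (CommRingCat.of k))) [IsProper A.hom] [IsProper B.hom]
    [GeometricallyIntegral A.hom] [GeometricallyIntegral B.hom] : GeometricallyIntegral (A ⊗ B).hom := by
  haveI : LocallyOfFinitePresentation A.hom := LocallyOfFinitePresentation.iff_locallyOfFiniteType.2 inferInstance
  haveI : LocallyOfFinitePresentation B.hom := LocallyOfFinitePresentation.iff_locallyOfFiniteType.2 inferInstance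
  exact geometricallyIntegral_prod A.hom B.hom

theorem rk_prod (K K' : Over (Spec (CommRingCat.of k))) [IsFinite K.hom] [IsFinite K'.hom] :
    rk (K ⊗ K') = rk K * rk K' := by
  have e := (AlgEquiv.ofBijective _ (prodΓ_bijective K K')).toLinearEquiv.finrank_eq
  rw [Module.finrank_tensorProduct] at e
  exact e.symm

variable {A : Over (Spec (CommRingCat.of k))} [GrpObj A] [IsProper A.hom] [GeometricallyIntegral A.hom]
  {L : A.left.Modules} (hL : PicF.IsInvertible L)

include hL in
/-- `K(Λ) = K × K` for the Mumford class. -/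
theorem mumfordZero_lambda_iff {N : (A ⊗ A).left.Modules} (hN : PicF.IsInvertible N)
    (cN : (clA hN : PicA (A ⊗ A).left) = lam hL (fst A A) (snd A A))
    {T : Over (Spec (CommRingCat.of k))} (z : T ⟶ A ⊗ A) :
    MumfordZero hN z ↔ MumfordZero hL (z ≫ fst A A) ∧ MumfordZero hL (z ≫ snd A A) := by
  haveI : IsCommMonObj A := isCommMonObj_field
  have hP : ∀ {V : Over (Spec (CommRingCat.of k))} (g : V ⟶ A ⊗ A),
      P hN g = lam hL (g ≫ fst A A) (g ≫ snd A A) := fun g => by
    show pullA g.left (clA hN : PicA (A ⊗ A).left) = _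
    rw [cN, pullA_lam]
  rw [← Lam_eq_zero_iff hL, ← Lam_eq_zero_iff hL, MumfordZero, hP, hP, hP]
  simp only [MonObj.mul_comp, lam_mul_left, lam_mul_right]
  constructor
  · intro h
    constructor
    · have h' := congrArg (pullA (lift (lift (1 : A ⊗ T ⟶ A) (fst A T)) (snd A T)).left :
        PicA ((A ⊗ A) ⊗ T).left →+ PicA (A ⊗ T).left) h
      simp only [map_add, pullA_lam, lift_fst_assoc, lift_fst, lift_snd, lift_snd_assoc, lam_one_left,
        add_eq_left, add_eq_right, zero_add, add_zero] at h'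
      rw [Lam, lam_comm]
      simpa [Category.assoc] using h'
    · have h' := congrArg (pullA (lift (lift (fst A T) (1 : A ⊗ T ⟶ A)) (snd A T)).left :
        PicA ((A ⊗ A) ⊗ T).left →+ PicA (A ⊗ T).left) h
      simp only [map_add, pullA_lam, lift_fst_assoc, lift_fst, lift_snd, lift_snd_assoc, lam_one_left,
        lam_comm hL _ (1 : A ⊗ T ⟶ A), add_eq_left, add_eq_right, zero_add, add_zero] at h'
      rw [Lam]
      simpa [Category.assoc] using h'
  · rintro ⟨ha, hb⟩
    let a := z ≫ fst A A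
    let b := z ≫ snd A A
    have e1 : lam hL (fst (A ⊗ A) T ≫ fst A A) (snd (A ⊗ A) T ≫ b) = 0 := by
      have := congrArg (pullA (lift (fst (A ⊗ A) T ≫ fst A A) (snd (A ⊗ A) T)).left :
        PicA (A ⊗ T).left →+ PicA ((A ⊗ A) ⊗ T).left) hb
      rw [Lam, pullA_lam, map_zero, lift_fst, lift_snd_assoc] at this
      exact this
    have e2 : lam hL (snd (A ⊗ A) T ≫ a) (fst (A ⊗ A) T ≫ snd A A) = 0 := by
      have := congrArg (pullA (lift (fst (A ⊗ A) T ≫ snd A A) (snd (A ⊗ A) T)).left :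
        PicA (A ⊗ T).left →+ PicA ((A ⊗ A) ⊗ T).left) ha
      rw [Lam, pullA_lam, map_zero, lift_fst, lift_snd_assoc] at this
      rw [lam_comm]
      exact this
    simp only [Category.assoc]
    rw [e1, e2, add_zero, zero_add]

include hL in
/-- The inclusion of `K × 0` is isotropic for the Mumford class. -/
theorem isIsotropic_jA [IsCommMonObj A] {N : (A ⊗ A).left.Modules} (hN : PicF.IsInvertible N)
    (hNs : AgPol.IsLambdaSheaf μ[A].left (fst A A).left (snd A A).left L N)
    {K : Over (Spec (CommRingCat.of k))} {iK : K ⟶ A} (hK : IsKL A L iK) :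
    IsIsotropic N (iK ≫ jA A) := by
  haveI := proper_prod A A
  haveI := geomInt_prod A A
  intro T x y β₁ β₂ h₁ h₂
  obtain ⟨θ⟩ := exists_triv hL hN hNs
  obtain ⟨γx, hγx⟩ := exists_isNorm hL hN hNs θ (mumfordZero_of_factors hL hK ⟨x, rfl⟩)
  obtain ⟨γy, hγy⟩ := exists_isNorm hL hN hNs θ (mumfordZero_of_factors hL hK ⟨y, rfl⟩)
  have hc : γx * γy = γy * γx :=
    (hγx.mul θ hγy).unique hN θ (mul_comm (x ≫ iK) (y ≫ iK) ▸ hγy.mul θ hγx)
  exact (commute_congr hN (hγx.1.trans ((Category.assoc _ _ _).trans (pt_eq_of_isOverPt h₁).symm))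
    (hγy.1.trans ((Category.assoc _ _ _).trans (pt_eq_of_isOverPt h₂).symm))).1 hc

theorem whiskerRight_prop (P : MorphismProperty Scheme.{u}) [P.IsStableUnderBaseChange]
    {X T : Over (Spec (CommRingCat.of k))} (t : T ⟶ X) (Y : Over (Spec (CommRingCat.of k))) (h : P t.left) :
    P (t ▷ Y).left :=
  MorphismProperty.of_isPullback (AVRRLib.isPullback_whiskerRight_left (Y := Y) t).flip h

theorem whiskerLeft_prop (P : MorphismProperty Scheme.{u}) [P.IsStableUnderBaseChange] [P.RespectsIso]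
    {X T : Over (Spec (CommRingCat.of k))} (Y : Over (Spec (CommRingCat.of k))) (t : T ⟶ X) (h : P t.left) :
    P (Y ◁ t).left := by
  rw [show Y ◁ t = (β_ Y T).hom ≫ t ▷ Y ≫ (β_ X Y).hom by
    apply CartesianMonoidalCategory.hom_ext <;> simp, Over.comp_left, Over.comp_left]
  haveI : IsIso (β_ Y T).hom.left := inferInstanceAs (IsIso ((Over.forget _).map (β_ Y T).hom))
  haveI : IsIso (β_ X Y).hom.left := inferInstanceAs (IsIso ((Over.forget _).map (β_ X Y).hom))
  rw [MorphismProperty.cancel_left_of_respectsIso P, MorphismProperty.cancel_right_of_respectsIso P]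
  exact whiskerRight_prop P t Y h

/-- The descended family. -/
structure QuotPair (Y : Over (Spec (CommRingCat.of k))) [GrpObj Y] (π : A ⟶ Y) {Q : (Y ⊗ A).left.Modules}
    (hQ : PicF.IsInvertible Q) : Prop where
  ker : ∀ (T : Over (Spec (CommRingCat.of k))) (x : T ⟶ A), x ≫ π = 1 ↔ MumfordZero hL x
  lam_eq : ∀ {V : Over (Spec (CommRingCat.of k))} (x a : V ⟶ A), P hQ (lift (a ≫ π) x) = lam hL x a
  mul_left : ∀ {V : Over (Spec (CommRingCat.of k))} (x x' : V ⟶ A) (y : V ⟶ Y),
    P hQ (lift y (x * x')) = P hQ (lift y x) + P hQ (lift y x')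
  mul_right : ∀ {V : Over (Spec (CommRingCat.of k))} (x : V ⟶ A) (y y' : V ⟶ Y),
    P hQ (lift (y * y') x) = P hQ (lift y x) + P hQ (lift y' x)
  principal : Principal hQ

theorem smooth_reduced (Y : Over (Spec (CommRingCat.of k))) [IsProper Y.hom] [GeometricallyIntegral Y.hom] :
    IsReduced Y.left := by
  haveI : IsLocallyNoetherian Y.left := LocallyOfFiniteType.isLocallyNoetherian Y.hom
  exact GeometricallyReduced.isReduced_of_flat_of_isLocallyNoetherian Y.hom

theorem isIntegral_prod (A B : Over (Spec (CommRingCat.of k))) [IsProper A.hom] [IsProper B.hom]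
    [GeometricallyIntegral A.hom] [GeometricallyIntegral B.hom] : IsIntegral (A ⊗ B).left := by
  haveI := geomInt_prod A B
  exact GeometricallyIntegral.isIntegral_of_subsingleton (A ⊗ B).hom

include hL in
theorem exists_descended [IsCommMonObj A] {Y : Over (Spec (CommRingCat.of k))} [GrpObj Y] [IsProper Y.hom] [GeometricallyIntegral Y.hom]
    {π : A ⟶ Y} [IsMonHom π] [IsFinite π.left] [Surjective π.left]
    {K : Over (Spec (CommRingCat.of k))} [GrpObj K] [IsFinite K.hom] {iK : K ⟶ A} [IsMonHom iK] [Mono iK]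
    (hK : IsKL A L iK) (hN : AlgGrp.IsKernel iK π) {Λ : (A ⊗ A).left.Modules} (hΛ : PicF.IsInvertible Λ)
    (hΛs : AgPol.IsLambdaSheaf μ[A].left (fst A A).left (snd A A).left L Λ)
    (cΛ : (clA hΛ : PicA (A ⊗ A).left) = lam hL (fst A A) (snd A A)) :
    ∃ (Q₀ : (Y ⊗ A).left.Modules) (hQ₀ : PicF.IsInvertible Q₀),
      ∀ {V : Over (Spec (CommRingCat.of k))} (x a : V ⟶ A), P hQ₀ (lift (a ≫ π) x) = lam hL x a := by
  haveI : IsCommMonObj A := isCommMonObj_field
  haveI : IsCommMonObj Y := isCommMonObj_field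
  haveI := proper_prod A A
  haveI := geomInt_prod A A
  haveI := proper_prod Y A
  haveI := geomInt_prod Y A
  haveI : IsCommMonObj (A ⊗ A) := isCommMonObj_field
  let f : A ⊗ A ⟶ Y ⊗ A := π ▷ A
  let iR : K ⟶ A ⊗ A := iK ≫ jA A
  haveI : IsMonHom f := isMonHom_of_mul _ fun T x y => by
    apply CartesianMonoidalCategory.hom_ext <;> simp [f, MonObj.mul_comp, Category.assoc]
  haveI : Surjective f.left := by
    exact whiskerRight_prop @Surjective π A ‹Surjective π.left›
  haveI : IsFinite f.left := by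
    exact whiskerRight_prop @IsFinite π A ‹IsFinite π.left›
  have hkf : ∀ {T : Over (Spec (CommRingCat.of k))} (x : T ⟶ A ⊗ A),
      x ≫ f = 1 ↔ ∃ n : T ⟶ K, n ≫ iR = x := fun {T} x => by
    have e1 : (x ≫ fst A A) ≫ π = x ≫ f ≫ fst Y A := by simp [f]
    have e2 : x ≫ snd A A = x ≫ f ≫ snd Y A := by simp [f]
    constructor
    · intro h
      rw [← Category.assoc, h, MonObj.one_comp] at e1 e2
      obtain ⟨n, hn⟩ := exists_lift_kernel hN _ e1
      refine ⟨n, CartesianMonoidalCategory.hom_ext _ _ ?_ ?_⟩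
      · simp [iR, jA, hn]
      · rw [e2]; simp [iR, jA]
    · rintro ⟨n, rfl⟩
      apply CartesianMonoidalCategory.hom_ext
      · simp [iR, jA, f, kernel_comp π hN n]
      · simp [iR, jA, f]
  haveI : Mono iR := ⟨fun {T} a b h => by
    rw [← cancel_mono iK]
    have := congrArg (· ≫ fst A A) h
    simpa [iR, jA] using this⟩
  have hNR : AlgGrp.IsKernel iR f := by
    have hη : toUnit K ≫ η[Y ⊗ A] = 1 := (Hom.one_def).symm
    refine IsPullback.of_isLimit' ⟨((hkf iR).2 ⟨𝟙 K, Category.id_comp _⟩).trans hη.symm⟩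
      (PullbackCone.IsLimit.mk _ (fun s => ((hkf s.fst).1 (by
        rw [s.condition, Hom.one_def, toUnit_unique s.snd (toUnit _)])).choose)
      (fun s => ((hkf s.fst).1 (by rw [s.condition, Hom.one_def, toUnit_unique s.snd (toUnit _)])).choose_spec)
      (fun s => Subsingleton.elim _ _) fun s m hm₁ _ => ?_)
    rw [← cancel_mono iR, hm₁]
    exact ((hkf s.fst).1 (by rw [s.condition, Hom.one_def, toUnit_unique s.snd (toUnit _)])).choose_spec.symm
  have hR0 : MumfordZero hΛ iR := (mumfordZero_lambda_iff hL hΛ cΛ iR).2 ⟨by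
      simpa [iR, jA] using mumfordZero_of_factors hL hK (x := iK) ⟨𝟙 K, Category.id_comp _⟩, by
      simpa [iR, jA, MonObj.comp_one] using mumfordZero_one (T := K) hL⟩
  obtain ⟨G, hGrp, u, hG⟩ := exists_isThetaGrpSch (L := Λ) hΛ
  obtain ⟨j, hj, hover⟩ := exists_lift_of_isotropic hΛ iR hG hR0 (isIsotropic_jA hL hΛ hΛs hK)
  haveI := hj
  obtain ⟨Q₀, hQ₀, ⟨e₀⟩⟩ := exists_descent_of_lift hNR hΛ hG hover
  have hP₀ : ∀ {V : Over (Spec (CommRingCat.of k))} (x a : V ⟶ A),
      P hQ₀ (lift (a ≫ π) x) = lam hL x a := fun {V} x a => by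
    rw [show lift (a ≫ π) x = lift a x ≫ f by simp [f], ← pullA_P hQ₀ (lift a x) f,
      show P hQ₀ f = (clA hΛ : PicA (A ⊗ A).left) from (P_eq hQ₀ f).trans ((clA_eq_iff _ hΛ).2 ⟨e₀⟩), cΛ, pullA_lam,
      lift_fst, lift_snd, lam_comm]
  exact ⟨Q₀, hQ₀, fun x a => hP₀ x a⟩

include hL in
theorem mul_left_of_normal {Y : Over (Spec (CommRingCat.of k))} [GrpObj Y] [IsProper Y.hom] [GeometricallyIntegral Y.hom]
    {π : A ⟶ Y} [IsMonHom π] [IsFinite π.left] [Surjective π.left]
    {Q : (Y ⊗ A).left.Modules} (hQ : PicF.IsInvertible Q)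
    (hlam : ∀ {V : Over (Spec (CommRingCat.of k))} (x a : V ⟶ A), P hQ (lift (a ≫ π) x) = lam hL x a)
    (hone : ∀ {V : Over (Spec (CommRingCat.of k))} (y : V ⟶ Y), P hQ (lift y (1 : V ⟶ A)) = 0)
    {V : Over (Spec (CommRingCat.of k))} (x x' : V ⟶ A) (y : V ⟶ Y) :
    P hQ (lift y (x * x')) = P hQ (lift y x) + P hQ (lift y x') := by
  haveI : IsCommMonObj A := isCommMonObj_field
  haveI := AbSchLib.flat_of_surjective π
  haveI := proper_prod A A
  haveI := geomInt_prod A A
  -- additivity in the point of `A`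
  have hYred := smooth_reduced Y
  let sw : A ⊗ Y ⟶ Y ⊗ A := lift (snd A Y) (fst A Y)
  have hF := AmpleDevLib.isInvertible_pb sw.left hQ
  let F : (PicF.XT A.hom Y).Modules := (Scheme.Modules.pullback sw.left).obj Q
  have hF' : PicF.IsInvertible F := hF
  have hev : ∀ {V : Over (Spec (CommRingCat.of k))} (x : V ⟶ A) (y : V ⟶ Y),
      ev (clA hF' : PicA (A ⊗ Y).left) x y = P hQ (lift y x) := fun x y => by
    show pullA (lift x y).left (clA hF) = _
    rw [← pullA_clA _ hQ, pullA_comp, ← Over.comp_left]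
    show P hQ _ = _
    congr 1
    apply CartesianMonoidalCategory.hom_ext <;> simp [sw]
  haveI : LocallyOfFinitePresentation A.hom := LocallyOfFinitePresentation.iff_locallyOfFiniteType.2 inferInstance
  haveI : LocallyOfFinitePresentation π.left := by
    haveI : IsLocallyNoetherian Y.left := LocallyOfFiniteType.isLocallyNoetherian Y.hom
    exact LocallyOfFinitePresentation.iff_locallyOfFiniteType.2 inferInstance
  have hdef : defect A Y hF' = 0 := by
    haveI : IsCommMonObj (A ⊗ A) := isCommMonObj_field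
    obtain ⟨D, hD, cD⟩ := CubeConsLib.exists_rep A Y hF'
    rw [← cD]
    refine eq_zero_of_fppfLocal (A := A ⊗ A) (T := Y) hD ?_ (Scheme.Hom.singleton_mem_fppfPrecoverage π.left) ?_
    · rw [cD, show PicF.secT (A ⊗ A).hom η[A ⊗ A].left (Over.w η[A ⊗ A]) Y = (lift (1 : Y ⟶ A ⊗ A) (𝟙 Y)).left from ?_]
      · show pullA (lift (1 : Y ⟶ A ⊗ A) (𝟙 Y)).left (defect A Y hF' : PicA ((A ⊗ A) ⊗ Y).left) = 0
        have e : ∀ g : A ⊗ A ⟶ A, pullA (lift (1 : Y ⟶ A ⊗ A) (𝟙 Y)).left
            (pullA (AbDual.bcMap g Y) (clA hF') : PicA ((A ⊗ A) ⊗ Y).left) =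
            ev (clA hF' : PicA (A ⊗ Y).left) ((1 : Y ⟶ A ⊗ A) ≫ g) (𝟙 Y) := fun g => by
          rw [← AVThetaLib.bcMap_eq, ev]
          refine (pullA_comp _ _ _).trans ?_
          rw [← Over.comp_left, lift_whiskerRight]
          rfl
        simp only [defect, map_sub, map_add, e]
        rw [show (1 : Y ⟶ A ⊗ A) = lift 1 1 from CartesianMonoidalCategory.hom_ext _ _ (by simp [MonObj.one_comp])
          (by simp [MonObj.one_comp])]
        simp [hev, MonObj.comp_mul, hone]
      · apply pullback.hom_ext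
        · refine (pullback.lift_fst _ _ _).trans ?_
          show _ = (lift (1 : Y ⟶ A ⊗ A) (𝟙 Y) ≫ fst _ _).left
          rw [lift_fst, Hom.one_def]
          rfl
        · refine (pullback.lift_snd _ _ _).trans ?_
          show _ = (lift (1 : Y ⟶ A ⊗ A) (𝟙 Y) ≫ snd _ _).left
          rw [lift_snd]
          rfl
    · intro U u hu
      cases hu
      obtain ⟨FA, hFA, cFA, -⟩ := exists_rep (hL := hL) (T := AbDual.ovr Y π.left) (AbDual.ovrHom Y π.left ≫ 𝟙 Y |> fun _ =>
        (Over.homMk (𝟙 A.left) (by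
          show 𝟙 A.left ≫ A.hom = π.left ≫ Y.hom
          rw [Category.id_comp, Over.w π]) : AbDual.ovr Y π.left ⟶ A))
      rw [cD, defect_natural A (AbDual.ovrHom Y π.left) hF' hFA ?_]
      · exact defect_of_addFam hFA (cFA ▸ addFam_Lam _)
      · rw [← AVThetaLib.XTmap_eq]
        show pullA (A ◁ AbDual.ovrHom Y π.left).left (clA hF' : PicA (A ⊗ Y).left) =
          (clA hFA : PicA (A ⊗ AbDual.ovr Y π.left).left)
        rw [cFA, Lam, ← hlam, ← hev, ev]
        congr 2
  have h := addFam_of_defect hF' hdef _ x x' y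
  rw [hev, hev, hev, hev, hone, sub_zero] at h
  exact h

include hL in
theorem mul_right_of_normal {Y : Over (Spec (CommRingCat.of k))} [GrpObj Y] [IsProper Y.hom] [GeometricallyIntegral Y.hom]
    {π : A ⟶ Y} [IsMonHom π] [IsFinite π.left] [Surjective π.left]
    {Q : (Y ⊗ A).left.Modules} (hQ : PicF.IsInvertible Q)
    (hlam : ∀ {V : Over (Spec (CommRingCat.of k))} (x a : V ⟶ A), P hQ (lift (a ≫ π) x) = lam hL x a)
    (hone : ∀ {V : Over (Spec (CommRingCat.of k))} (y : V ⟶ Y), P hQ (lift y (1 : V ⟶ A)) = 0)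
    {V : Over (Spec (CommRingCat.of k))} (x : V ⟶ A) (y y' : V ⟶ Y) :
    P hQ (lift (y * y') x) = P hQ (lift y x) + P hQ (lift y' x) := by
  haveI : IsCommMonObj A := isCommMonObj_field
  haveI := proper_prod A A
  haveI := geomInt_prod A A
  have hYred := smooth_reduced Y
  -- additivity in the point of `Y`
  let r₁ := snd A (Y ⊗ Y) ≫ fst Y Y
  let r₂ := snd A (Y ⊗ Y) ≫ snd Y Y
  obtain ⟨D₁, hD₁, cD₁⟩ := exists_sub (AmpleDevLib.isInvertible_pb (lift (r₁ * r₂) (fst A (Y ⊗ Y))).left hQ)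
    (AmpleDevLib.isInvertible_pb (lift r₁ (fst A (Y ⊗ Y))).left hQ)
  obtain ⟨D, hD, cD⟩ := exists_sub hD₁ (AmpleDevLib.isInvertible_pb (lift r₂ (fst A (Y ⊗ Y))).left hQ)
  rw [← P_eq hQ, ← P_eq hQ] at cD₁
  rw [cD₁, ← P_eq hQ] at cD
  have hpD : ∀ {V : Over (Spec (CommRingCat.of k))} (x : V ⟶ A) (w : V ⟶ Y ⊗ Y),
      pullA (lift x w).left (clA hD) = P hQ (lift ((w ≫ fst Y Y) * (w ≫ snd Y Y)) x) -
        P hQ (lift (w ≫ fst Y Y) x) - P hQ (lift (w ≫ snd Y Y) x) := fun x w => by
    rw [cD, map_sub, map_sub, pullA_P, pullA_P, pullA_P]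
    simp [r₁, r₂, MonObj.comp_mul]
  haveI := proper_prod Y Y
  haveI := isIntegral_prod Y Y
  let D' : (PicF.XT A.hom (Y ⊗ Y)).Modules := D
  have hD' : PicF.IsInvertible D' := hD
  let π₂ : A ⊗ A ⟶ Y ⊗ Y := π ⊗ₘ π
  haveI : IsMonHom π₂ := isMonHom_of_mul _ fun T x y => by
    apply CartesianMonoidalCategory.hom_ext <;> simp [π₂, MonObj.mul_comp, Category.assoc]
  haveI : Surjective π₂.left := by
    haveI : Surjective (π ▷ A).left := whiskerRight_prop @Surjective π A ‹_›
    haveI : Surjective (Y ◁ π).left := by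
      exact whiskerLeft_prop @Surjective Y π ‹Surjective π.left›
    rw [show π₂ = π ▷ A ≫ Y ◁ π from (MonoidalCategory.tensorHom_def _ _), Over.comp_left]
    infer_instance
  haveI := geomInt_prod Y Y
  haveI := AbSchLib.flat_of_surjective π₂
  haveI : LocallyOfFinitePresentation π₂.left := by
    haveI : IsLocallyNoetherian (Y ⊗ Y).left := LocallyOfFiniteType.isLocallyNoetherian (Y ⊗ Y).hom
    haveI : LocallyOfFiniteType (π₂.left ≫ (Y ⊗ Y).hom) := by rw [Over.w π₂]; infer_instance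
    haveI : LocallyOfFiniteType π₂.left := locallyOfFiniteType_of_comp π₂.left (Y ⊗ Y).hom
    exact LocallyOfFinitePresentation.iff_locallyOfFiniteType.2 inferInstance
  have hD0 : clA hD' = 0 := by
    refine eq_zero_of_fppfLocal (A := A) (T := Y ⊗ Y) hD' ?_ (Scheme.Hom.singleton_mem_fppfPrecoverage π₂.left) ?_
    · rw [← AVThetaLib.secT_eq]
      show pullA (lift (1 : Y ⊗ Y ⟶ A) (𝟙 _)).left (clA hD) = 0
      rw [hpD, hone, hone, hone, sub_zero, sub_zero]
    · intro U u hu
      cases hu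
      rw [← AVThetaLib.XTmap_eq]
      show pullA (A ◁ AbDual.ovrHom (Y ⊗ Y) π₂.left).left (clA hD) = 0
      let w := AbDual.ovr (Y ⊗ Y) π₂.left
      let t : w ⟶ A ⊗ A := Over.homMk (𝟙 (A ⊗ A).left) (by
        show 𝟙 _ ≫ (A ⊗ A).hom = π₂.left ≫ (Y ⊗ Y).hom
        rw [Category.id_comp, Over.w π₂])
      have ht : AbDual.ovrHom (Y ⊗ Y) π₂.left = t ≫ π₂ := Over.OverMorphism.ext (Category.id_comp π₂.left).symm
      rw [show A ◁ AbDual.ovrHom (Y ⊗ Y) π₂.left = lift (fst A w) (snd A w ≫ t ≫ π₂) by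
        rw [ht]; apply CartesianMonoidalCategory.hom_ext <;> simp <;> rfl, hpD]
      simp only [Category.assoc, π₂, tensorHom_fst, tensorHom_snd]
      simp only [← Category.assoc, ← MonObj.mul_comp, hlam, lam_mul_right]
      abel
  have h := hpD x (lift y y')
  rw [show clA hD = (0 : PicA (A ⊗ (Y ⊗ Y)).left) from hD0, map_zero, lift_fst, lift_snd, sub_sub, eq_comm,
    sub_eq_zero] at h
  exact h

include hL in
theorem principal_of_descended {Y : Over (Spec (CommRingCat.of k))} [GrpObj Y] [IsProper Y.hom] [GeometricallyIntegral Y.hom]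
    {π : A ⟶ Y} [IsMonHom π] [IsFinite π.left] [Surjective π.left]
    {K : Over (Spec (CommRingCat.of k))} [GrpObj K] [IsFinite K.hom] {iK : K ⟶ A} [IsMonHom iK] [Mono iK]
    (hK : IsKL A L iK) (hN : AlgGrp.IsKernel iK π) {Λ : (A ⊗ A).left.Modules} (hΛ : PicF.IsInvertible Λ)
    (cΛ : (clA hΛ : PicA (A ⊗ A).left) = lam hL (fst A A) (snd A A))
    {Q : (Y ⊗ A).left.Modules} (hQ : PicF.IsInvertible Q)
    (hlam : ∀ {V : Over (Spec (CommRingCat.of k))} (x a : V ⟶ A), P hQ (lift (a ≫ π) x) = lam hL x a) :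
    Principal hQ := by
  haveI : IsCommMonObj A := isCommMonObj_field
  haveI := hK.closed
  haveI := proper_prod A A
  haveI := geomInt_prod A A
  haveI := proper_prod Y A
  haveI := geomInt_prod Y A
  let f : A ⊗ A ⟶ Y ⊗ A := π ▷ A
  haveI : IsMonHom f := isMonHom_of_mul _ fun T x y => by
    apply CartesianMonoidalCategory.hom_ext <;> simp [f, MonObj.mul_comp, Category.assoc]
  haveI : Surjective f.left := whiskerRight_prop @Surjective π A ‹Surjective π.left›
  haveI : IsFinite f.left := whiskerRight_prop @IsFinite π A ‹IsFinite π.left›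
  haveI := AbSchLib.flat_of_surjective π
  -- triviality of `K(Q)`
  have eQ : (Scheme.Modules.pullback f.left).obj Q ≅ Λ := Nonempty.some ((clA_eq_iff
    (AmpleDevLib.isInvertible_pb f.left hQ) hΛ).1 (by
      rw [← P_eq hQ, show f = lift (fst A A ≫ π) (snd A A) from
        CartesianMonoidalCategory.hom_ext _ _ (by simp [f]) (by simp [f]), hlam, cΛ, lam_comm]))
  have hKΛ : IsKL (A ⊗ A) Λ (iK ⊗ₘ iK) := by
    refine ⟨?_, fun T z => ?_⟩
    · haveI : IsClosedImmersion (iK ▷ K).left := by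
        exact whiskerRight_prop @IsClosedImmersion iK K ‹_›
      haveI : IsClosedImmersion (A ◁ iK).left := by
        exact whiskerLeft_prop @IsClosedImmersion A iK ‹_›
      rw [MonoidalCategory.tensorHom_def, Over.comp_left]
      infer_instance
    · rw [mumfordTriv_iff hΛ, mumfordZero_lambda_iff hL hΛ cΛ]
      constructor
      · rintro ⟨h1, h2⟩
        obtain ⟨a, ha⟩ := (hK.univ T _).1 ((mumfordTriv_iff hL _).2 h1)
        obtain ⟨b, hb⟩ := (hK.univ T _).1 ((mumfordTriv_iff hL _).2 h2)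
        exact ⟨lift a b, CartesianMonoidalCategory.hom_ext _ _ (by simp [ha]) (by simp [hb])⟩
      · rintro ⟨y, rfl⟩
        exact ⟨mumfordZero_of_factors hL hK ⟨y ≫ fst K K, by simp⟩,
          mumfordZero_of_factors hL hK ⟨y ≫ snd K K, by simp⟩⟩
  haveI : IsFinite (K ⊗ K).hom := by
    haveI : IsFinite (pullback.fst K.hom K.hom) := MorphismProperty.pullback_fst (P := @IsFinite) _ _ ‹_›
    exact inferInstanceAs (IsFinite (pullback.fst K.hom K.hom ≫ K.hom))
  haveI : IsCommMonObj (A ⊗ A) := isCommMonObj_field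
  haveI := AbSchLib.flat_of_surjective f
  let b₀ : (Y ⊗ A).left := (η[Y ⊗ A] : 𝟙_ (Over (Spec (CommRingCat.of k))) ⟶ Y ⊗ A).left (IsLocalRing.closedPoint k)
  have hd : ∀ b, f.left.finrank b = f.left.finrank b₀ := fun b => AVAmpleLib.finrank_const f b b₀
  let s := IsLocalRing.closedPoint k
  obtain ⟨r, hr0, hsq, -, hr1, -, -⟩ := exists_rank_relation hΛ hQ eQ hKΛ hd s
  exact hr1 (by
    have e1 : rk K = f.left.finrank b₀ := by
      let y₀ := (fst Y A).left b₀
      have hdπ : ∀ y, π.left.finrank y = π.left.finrank y₀ := fun y => AVAmpleLib.finrank_const π y y₀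
      rw [← finrank_eq_rk K s, finrank_kernel hN hdπ s]
      exact (Scheme.Hom.finrank_of_isPullback _ _ _ _ (AVRRLib.isPullback_whiskerRight_left (Y := A) π).flip b₀).symm
    rw [finrank_eq_rk, rk_prod, ← e1, pow_two] at hsq
    have h0 : 0 < rk K * rk K := Nat.mul_pos (by rw [e1]; exact (Scheme.Hom.one_le_finrank_iff_surjective _).2 inferInstance b₀)
      (by rw [e1]; exact (Scheme.Hom.one_le_finrank_iff_surjective _).2 inferInstance b₀)
    exact (Nat.eq_of_mul_eq_mul_left h0 ((Nat.mul_one _).trans hsq)).symm)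

include hL in
/-- The quotient by a finite `K(L)`, with the descended family. -/
theorem exists_quotPair (hKf : ∀ (K : Over (Spec (CommRingCat.of k))) (iK : K ⟶ A), IsKL A L iK → IsFinite K.hom) :
    ∃ (Y : Over (Spec (CommRingCat.of k))) (_ : GrpObj Y) (_ : IsProper Y.hom) (_ : GeometricallyIntegral Y.hom)
      (π : A ⟶ Y) (_ : IsMonHom π) (_ : IsFinite π.left) (_ : Surjective π.left) (Q : (Y ⊗ A).left.Modules)
      (hQ : PicF.IsInvertible Q), QuotPair hL Y π hQ := by
  haveI : IsCommMonObj A := isCommMonObj_field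
  obtain ⟨K, iK, hK⟩ := exists_isKL hL
  haveI := hK.closed
  haveI := hKf K iK hK
  haveI : Mono iK := Over.mono_of_mono_left _
  obtain ⟨gK, hmK⟩ := exists_grpObj_sub iK
    (fun T => (hK.univ T _).1 ((mumfordTriv_iff hL _).2 (mumfordZero_one hL)))
    (fun T a b => factors_mul hL hK ⟨a, rfl⟩ ⟨b, rfl⟩) (fun T a => factors_inv hL hK ⟨a, rfl⟩)
  haveI := hmK
  obtain ⟨Y, hYg, π, hYp, hYi, hπm, hπs, hN⟩ := exists_quotient_kernel A iK
  haveI := hπm
  haveI := hπs
  haveI := hYp
  haveI := hYi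
  haveI : IsFinite π.left := isFinite_of_finite_isKernel hN
  haveI : IsCommMonObj Y := isCommMonObj_field
  haveI := AbSchLib.flat_of_surjective π
  have hker : ∀ (T : Over (Spec (CommRingCat.of k))) (x : T ⟶ A), x ≫ π = 1 ↔ MumfordZero hL x := fun T x => by
    constructor
    · intro h
      obtain ⟨y, hy⟩ := exists_lift_kernel hN x h
      exact mumfordZero_of_factors hL hK ⟨y, hy⟩
    · intro h
      obtain ⟨y, rfl⟩ := (hK.univ T x).1 ((mumfordTriv_iff hL x).2 h)
      exact kernel_comp π hN y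
  -- the Mumford module and its descent
  obtain ⟨N, hN', cN'⟩ := exists_mumford hL
  let Λ : (A ⊗ A).left.Modules := N
  have hΛ : PicF.IsInvertible Λ := hN'
  have cΛ : (clA hΛ : PicA (A ⊗ A).left) = lam hL (fst A A) (snd A A) := cN'
  have hΛs : AgPol.IsLambdaSheaf μ[A].left (fst A A).left (snd A A).left L Λ := isLambdaSheaf_of_clA hL hN' cN'
  obtain ⟨Q₀, hQ₀, hP₀⟩ := exists_descended hL (π := π) hK hN hΛ hΛs cΛ
  -- normalisation along `Y × 1`
  let j₁ : Y ⟶ Y ⊗ A := lift (𝟙 Y) 1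
  obtain ⟨Q, hQ, cQ⟩ := exists_sub hQ₀
    (AmpleDevLib.isInvertible_pb (fst Y A).left (AmpleDevLib.isInvertible_pb j₁.left hQ₀))
  have hPQ : ∀ {V : Over (Spec (CommRingCat.of k))} (g : V ⟶ Y ⊗ A),
      P hQ g = P hQ₀ g - P hQ₀ (lift (g ≫ fst Y A) 1) := fun {V} g => by
    show pullA g.left (clA hQ) = _
    rw [cQ, map_sub, ← pullA_clA _ (AmpleDevLib.isInvertible_pb j₁.left hQ₀), ← pullA_clA _ hQ₀]
    congr 1
    rw [pullA_comp, pullA_comp, ← Over.comp_left, ← Over.comp_left]
    show P hQ₀ _ = P hQ₀ _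
    congr 1
    apply CartesianMonoidalCategory.hom_ext <;> simp [j₁]
  have hlam : ∀ {V : Over (Spec (CommRingCat.of k))} (x a : V ⟶ A), P hQ (lift (a ≫ π) x) = lam hL x a :=
    fun x a => by rw [hPQ, lift_fst, hP₀, hP₀, lam_one_left, sub_zero]
  have hone : ∀ {V : Over (Spec (CommRingCat.of k))} (y : V ⟶ Y), P hQ (lift y (1 : V ⟶ A)) = 0 := fun y => by
    rw [hPQ, lift_fst, sub_self]
  exact ⟨Y, hYg, hYp, hYi, π, hπm, inferInstance, hπs, Q, hQ,
    { ker := hker, lam_eq := hlam, mul_left := fun x x' y => mul_left_of_normal hL hQ hlam hone x x' y,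
      mul_right := fun x y y' => mul_right_of_normal hL hQ hlam hone x y y',
      principal := principal_of_descended hL hK hN hΛ cΛ hQ hlam }⟩

end AVDualLib

end
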